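import Mathlib
import Groth.Prelude.Def_SGA3b
import Groth.Agent.Lib.Helper6.MultType.Basic
import Groth.Agent.Lib.Helper6.Lift.Charts
import Groth.Agent.Lib.Helper6.Lift.Family
import Groth.Agent.Lib.Helper6.Lift.DiagLift

/-!
# The invariant integral of a group of multiplicative type (helper6)

For a Hopf algebra `A` of multiplicative type over `R` there is an `R`-linear functional
`lam : A → R` with `lam 1 = 1` and `∑ lam(a₂) a₁ = lam(a) 1` (the projection to the invariants).
It is the coefficient of `1` in the diagonalisable case, and descends along a jointly faithfully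
flat family of charts because it is unique.
-/

set_option autoImplicit false
set_option linter.unusedSectionVars false
set_option linter.unusedVariables false
set_option linter.unusedSimpArgs false
set_option linter.style.haveILetI false
set_option linter.overlappingInstances false
set_option maxHeartbeats 800000
set_option synthInstance.maxHeartbeats 400000

universe u
open TensorProduct SGA3b Coalgebra
open Groth.Agent.Lib.Helper6.MultType Groth.Agent.Lib.Helper6.Lift

namespace Groth.Agent.Lib.Helper6.HInt

section V

variable {R : Type u} [CommRing R] {A : Type u} [CommRing A] [Bialgebra R A]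
variable {S : Type u} [CommRing S] [Algebra R S]

/-- `S`-valued two-sided invariant normalised integral on the `R`-bialgebra `A`. -/
structure IsIntV (l : A →ₗ[R] S) : Prop where
  one : l 1 = 1
  left : ∀ a : A, l.lTensor A (comul (R := R) a) = (1 : A) ⊗ₜ[R] l a
  right : ∀ a : A, l.rTensor A (comul (R := R) a) = l a ⊗ₜ[R] (1 : A)

lemma IsIntV.comp {S' : Type u} [CommRing S'] [Algebra R S'] {l : A →ₗ[R] S} (h : IsIntV l)
    (g : S →ₐ[R] S') : IsIntV (g.toLinearMap ∘ₗ l) where
  one := by
    rw [LinearMap.comp_apply, h.one]
    exact map_one g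
  left a := by
    rw [LinearMap.lTensor_comp, LinearMap.comp_apply, h.left, LinearMap.lTensor_tmul]
    rfl
  right a := by
    rw [LinearMap.rTensor_comp, LinearMap.comp_apply, h.right, LinearMap.rTensor_tmul]
    rfl

lemma IsIntV.eq_of {l l' : A →ₗ[R] S} (h : IsIntV l) (h' : IsIntV l') : l = l' := by
  ext a
  have e1 : LinearMap.mul' R S (l'.rTensor S (l.lTensor A (comul (R := R) a))) = l a := by
    rw [h.left, LinearMap.rTensor_tmul, LinearMap.mul'_apply, h'.one, one_mul]
  have e2 : LinearMap.mul' R S (l.lTensor S (l'.rTensor A (comul (R := R) a))) = l' a := by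
    rw [h'.right, LinearMap.lTensor_tmul, LinearMap.mul'_apply, h.one, mul_one]
  have e3 : l'.rTensor S (l.lTensor A (comul (R := R) a)) =
      l.lTensor S (l'.rTensor A (comul (R := R) a)) := by
    have h1 : l'.rTensor S ∘ₗ l.lTensor A = l.lTensor S ∘ₗ l'.rTensor A := by
      rw [LinearMap.rTensor_comp_lTensor, LinearMap.lTensor_comp_rTensor]
    exact LinearMap.congr_fun h1 _
  rw [← e1, ← e2, e3]

lemma IsIntV.of_equiv {B B' : Type u} [CommRing B] [Bialgebra R B] [CommRing B'] [Bialgebra R B']
    (el : B ≃ₗ[R] B') (h1 : el 1 = 1)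
    (hc : ∀ b : B, TensorProduct.map el.toLinearMap el.toLinearMap (comul (R := R) b) =
      comul (R := R) (el b))
    {l : B' →ₗ[R] S} (h : IsIntV l) : IsIntV (l ∘ₗ el.toLinearMap) := by
  refine ⟨?_, ?_, ?_⟩
  · rw [LinearMap.comp_apply]
    show l (el 1) = 1
    rw [h1, h.one]
  · intro b
    have key : ∀ z : B ⊗[R] B, el.toLinearMap.rTensor S ((l ∘ₗ el.toLinearMap).lTensor B z) =
        l.lTensor B' (TensorProduct.map el.toLinearMap el.toLinearMap z) := by
      intro z
      induction z using TensorProduct.induction_on with
      | zero => simp only [map_zero]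
      | tmul x y =>
        simp only [LinearMap.lTensor_tmul, LinearMap.rTensor_tmul, TensorProduct.map_tmul,
          LinearMap.comp_apply]
      | add y z hy hz => simp only [map_add, hy, hz]
    have hinj : Function.Injective (el.toLinearMap.rTensor S) := by
      have : el.toLinearMap.rTensor S = ((el.rTensor S).toLinearMap) := rfl
      rw [this]
      exact LinearEquiv.injective _
    apply hinj
    rw [key, hc, h.left, LinearMap.rTensor_tmul]
    show (1 : B') ⊗ₜ[R] l (el b) = el 1 ⊗ₜ[R] l (el b)
    rw [h1]
  · intro b
    have key : ∀ z : B ⊗[R] B, el.toLinearMap.lTensor S ((l ∘ₗ el.toLinearMap).rTensor B z) =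
        l.rTensor B' (TensorProduct.map el.toLinearMap el.toLinearMap z) := by
      intro z
      induction z using TensorProduct.induction_on with
      | zero => simp only [map_zero]
      | tmul x y =>
        simp only [LinearMap.lTensor_tmul, LinearMap.rTensor_tmul, TensorProduct.map_tmul,
          LinearMap.comp_apply]
      | add y z hy hz => simp only [map_add, hy, hz]
    have hinj : Function.Injective (el.toLinearMap.lTensor S) := by
      have : el.toLinearMap.lTensor S = ((el.lTensor S).toLinearMap) := rfl
      rw [this]
      exact LinearEquiv.injective _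
    apply hinj
    rw [key, hc, h.right, LinearMap.lTensor_tmul]
    show l (el b) ⊗ₜ[R] (1 : B') = l (el b) ⊗ₜ[R] el 1
    rw [h1]

end V

section Diag

variable (R : Type u) [CommRing R] (M : Type u) [CommGroup M]

/-- The coefficient of `1`. -/
noncomputable def coe0 : MonoidAlgebra R M →ₗ[R] R :=
  (Finsupp.lapply (1 : M)) ∘ₗ (MonoidAlgebra.coeffLinearEquiv R).toLinearMap

lemma coe0_single [DecidableEq M] (m : M) (r : R) :
    coe0 R M (MonoidAlgebra.single m r) = if m = 1 then r else 0 := by
  show (MonoidAlgebra.single m r).coeff 1 = _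
  exact Finsupp.single_apply

lemma isIntV_coe0 : IsIntV (R := R) (A := MonoidAlgebra R M) (S := R) (coe0 R M) := by
  classical
  refine ⟨?_, ?_, ?_⟩
  · rw [MonoidAlgebra.one_def, coe0_single, if_pos rfl]
  · intro a
    induction a using MonoidAlgebra.induction_linear with
    | zero => simp only [map_zero, TensorProduct.tmul_zero]
    | add x y hx hy => simp only [map_add, hx, hy, TensorProduct.tmul_add]
    | single m r =>
      rw [comul_single', LinearMap.lTensor_tmul, coe0_single]
      split_ifs with hm
      · subst hm
        rfl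
      · rw [TensorProduct.tmul_zero, TensorProduct.tmul_zero]
  · intro a
    induction a using MonoidAlgebra.induction_linear with
    | zero => simp only [map_zero, TensorProduct.zero_tmul]
    | add x y hx hy => simp only [map_add, hx, hy, TensorProduct.add_tmul]
    | single m r =>
      rw [comul_single', LinearMap.rTensor_tmul, coe0_single, coe0_single]
      split_ifs with hm
      · subst hm
        have e : (MonoidAlgebra.single (1 : M) r : MonoidAlgebra R M) =
            r • (1 : MonoidAlgebra R M) := by
          rw [MonoidAlgebra.one_def, MonoidAlgebra.smul_single, smul_eq_mul, mul_one]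
        rw [e, TensorProduct.tmul_smul, TensorProduct.smul_tmul', smul_eq_mul, mul_one]
      · rw [TensorProduct.zero_tmul, TensorProduct.zero_tmul]

end Diag

section Restrict

variable {R : Type u} [CommRing R] {A : Type u} [CommRing A] [Bialgebra R A]
variable {S : Type u} [CommRing S] [Algebra R S]

/-- Restriction of an `S`-linear functional on `S ⊗ A` to `A`. -/
noncomputable def restr (L : S ⊗[R] A →ₗ[S] S) : A →ₗ[R] S :=
  (L.restrictScalars R) ∘ₗ (TensorProduct.mk R S A 1)

lemma restr_apply (L : S ⊗[R] A →ₗ[S] S) (a : A) : restr L a = L ((1 : S) ⊗ₜ[R] a) := rfl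

lemma isIntV_restr {L : S ⊗[R] A →ₗ[S] S}
    (h : IsIntV (R := S) (A := S ⊗[R] A) (S := S) L) :
    IsIntV (R := R) (A := A) (S := S) (restr L) := by
  refine ⟨?_, ?_, ?_⟩
  · rw [restr_apply, ← Algebra.TensorProduct.one_def]
    exact h.one
  · intro a
    have KL : ∀ z : A ⊗[R] A, TensorProduct.comm R A S ((restr L).lTensor A z) =
        TensorProduct.rid S (S ⊗[R] A) (L.lTensor (S ⊗[R] A) (T₀ R S A z)) := by
      intro z
      induction z using TensorProduct.induction_on with
      | zero => simp only [map_zero]
      | tmul x y =>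
        rw [LinearMap.lTensor_tmul, TensorProduct.comm_tmul, T₀_tmul, LinearMap.lTensor_tmul,
          TensorProduct.rid_tmul, restr_apply, TensorProduct.smul_tmul', smul_eq_mul, mul_one]
      | add y z hy hz => simp only [map_add, hy, hz]
    apply (TensorProduct.comm R A S).injective
    rw [KL, ← comul_one_tmul R S A a, h.left, TensorProduct.rid_tmul, TensorProduct.comm_tmul,
      restr_apply, Algebra.TensorProduct.one_def, TensorProduct.smul_tmul', smul_eq_mul, mul_one]
  · intro a
    have KL : ∀ z : A ⊗[R] A, (restr L).rTensor A z =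
        TensorProduct.lid S (S ⊗[R] A) (L.rTensor (S ⊗[R] A) (T₀ R S A z)) := by
      intro z
      induction z using TensorProduct.induction_on with
      | zero => simp only [map_zero]
      | tmul x y =>
        rw [LinearMap.rTensor_tmul, T₀_tmul, LinearMap.rTensor_tmul,
          TensorProduct.lid_tmul, restr_apply, TensorProduct.smul_tmul', smul_eq_mul, mul_one]
      | add y z hy hz => simp only [map_add, hy, hz]
    rw [KL, ← comul_one_tmul R S A a, h.right, TensorProduct.lid_tmul,
      restr_apply, Algebra.TensorProduct.one_def, TensorProduct.smul_tmul', smul_eq_mul, mul_one]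

end Restrict

section Descent

variable {R : Type u} [CommRing R] {A : Type u} [CommRing A] [HopfAlgebra R A]

lemma exists_intV_of_chart (c : Chart R A) :
    ∃ l : A →ₗ[R] c.S, IsIntV (R := R) (A := A) (S := c.S) l := by
  obtain ⟨M, _, ⟨e⟩⟩ := c.diag
  refine ⟨restr ((coe0 c.S M) ∘ₗ e.toCoalgEquiv.toLinearEquiv.toLinearMap), isIntV_restr ?_⟩
  refine IsIntV.of_equiv e.toCoalgEquiv.toLinearEquiv ?_ ?_ (isIntV_coe0 c.S M)
  · exact map_one e
  · intro b
    exact CoalgHomClass.map_comp_comul_apply e b

/-- **The invariant integral of a group of multiplicative type.** -/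
theorem exists_integral (h : IsMultType R A) :
    ∃ lam : A →ₗ[R] R, lam 1 = 1 ∧
      ∀ a : A, TensorProduct.rid R A (lam.lTensor A (comul (R := R) a)) = lam a • (1 : A) := by
  classical
  obtain ⟨ι, _, _, c, hJF⟩ := IsMultType.exists_charts h
  choose l hl using fun i => exists_intV_of_chart (c i)
  have hcompat : ∀ i j (a : A), l i a ⊗ₜ[R] (1 : (c j).S) = (1 : (c i).S) ⊗ₜ[R] l j a := by
    intro i j a
    have := IsIntV.eq_of
      ((hl i).comp (Algebra.TensorProduct.includeLeft : (c i).S →ₐ[R] (c i).S ⊗[R] (c j).S))
      ((hl j).comp (Algebra.TensorProduct.includeRight : (c j).S →ₐ[R] (c i).S ⊗[R] (c j).S))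
    exact LinearMap.congr_fun this a
  have huniq : ∀ r r' : R, (∀ i, algebraMap R (c i).S r = algebraMap R (c i).S r') → r = r' := by
    intro r r' hrr
    rw [← sub_eq_zero]
    apply eq_zero_of_family (fun i => (c i).S) R hJF
    intro i
    have : (1 : (c i).S) ⊗ₜ[R] (r - r') = (algebraMap R (c i).S (r - r')) ⊗ₜ[R] (1 : R) := by
      rw [Algebra.algebraMap_eq_smul_one, TensorProduct.smul_tmul, smul_eq_mul, mul_one]
    rw [this, map_sub, hrr i, sub_self, TensorProduct.zero_tmul]
  have hex : ∀ a : A, ∃ r : R, ∀ i, l i a = algebraMap R (c i).S r := by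
    intro a
    obtain ⟨n, hn⟩ := exists_of_compat (fun i => (c i).S) R hJF
      (fun i => l i a ⊗ₜ[R] (1 : R)) (by
        intro i j
        have := congrArg (LinearMap.lTensor (c i).S ((TensorProduct.mk R (c j).S R).flip 1))
          (hcompat i j a)
        rw [LinearMap.lTensor_tmul, LinearMap.lTensor_tmul] at this
        rw [LinearMap.lTensor_tmul]
        exact this.symm)
    refine ⟨n, fun i => ?_⟩
    have := congrArg (TensorProduct.rid R (c i).S) (hn i)
    rw [TensorProduct.rid_tmul, TensorProduct.rid_tmul, one_smul] at this
    rw [this, Algebra.algebraMap_eq_smul_one]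
  choose lamf hlamf using hex
  let lam : A →ₗ[R] R :=
    { toFun := lamf
      map_add' := fun a b => huniq _ _ (fun i => by
        rw [map_add, ← hlamf a i, ← hlamf b i, ← hlamf (a + b) i, map_add])
      map_smul' := fun r a => huniq _ _ (fun i => by
        rw [RingHom.id_apply, smul_eq_mul, map_mul, ← hlamf a i, ← hlamf (r • a) i, map_smul,
          Algebra.smul_def]) }
  have hlam : ∀ i a, l i a = algebraMap R (c i).S (lam a) := fun i a => hlamf a i
  refine ⟨lam, ?_, ?_⟩
  · apply huniq
    intro i
    rw [← hlam, (hl i).one, map_one]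
  · intro a
    rw [← sub_eq_zero]
    apply eq_zero_of_family (fun i => (c i).S) A hJF
    intro i
    have GLm : ∀ z : A ⊗[R] A,
        (1 : (c i).S) ⊗ₜ[R] (TensorProduct.rid R A (lam.lTensor A z)) =
          TensorProduct.comm R A (c i).S ((l i).lTensor A z) := by
      intro z
      induction z using TensorProduct.induction_on with
      | zero => simp only [map_zero, TensorProduct.tmul_zero]
      | tmul x y =>
        rw [LinearMap.lTensor_tmul, TensorProduct.rid_tmul, LinearMap.lTensor_tmul,
          TensorProduct.comm_tmul, hlam, TensorProduct.tmul_smul, Algebra.algebraMap_eq_smul_one,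
          TensorProduct.smul_tmul']
      | add y z hy hz => simp only [map_add, TensorProduct.tmul_add, hy, hz]
    rw [TensorProduct.tmul_sub, GLm, (hl i).left, TensorProduct.comm_tmul, hlam, sub_eq_zero,
      Algebra.algebraMap_eq_smul_one, TensorProduct.smul_tmul]

end Descent

end Groth.Agent.Lib.Helper6.HInt
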