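import Mathlib
import Groth.Prelude.Def_SGA3b

/-!
# Convolution calculus for maps from a Hopf algebra to commutative algebras (helper6)

`Cv R C T = WithConv (C →ₗ[R] T)` is the convolution ring; algebra maps `C → T` (the `T`-points of
the group `Spec C`) are units in it.  We set up push-forward along algebra maps and linear maps of
`T`, the ideal of maps with values in `J T`, and some noncommutative ring identities.
-/

set_option autoImplicit false
set_option linter.unusedSectionVars false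
set_option linter.unusedVariables false
set_option linter.unusedSimpArgs false
set_option linter.style.haveILetI false
set_option linter.overlappingInstances false
set_option maxHeartbeats 800000
set_option synthInstance.maxHeartbeats 400000

universe u
open TensorProduct SGA3b Coalgebra WithConv

namespace Groth.Agent.Lib.Helper6.HInt

section RingLemmas

variable {𝒜 : Type*} [Ring 𝒜]

lemma ring_AL0 (a ai x0 x1 x2 x3 : 𝒜) (hai : a * ai = 1)
    (h : (1 + x1) * (1 + x3) = (1 + x2) * a * (1 + x0) * ai)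
    (z1 : x1 * x3 = 0) (z2 : x2 * (a * x0 * ai) = 0) : x1 + x3 = x2 + a * x0 * ai := by
  have e1 : (1 + x1) * (1 + x3) = 1 + (x1 + x3) + x1 * x3 := by noncomm_ring
  have e2 : (1 + x2) * a * (1 + x0) * ai =
      a * ai + a * x0 * ai + x2 * (a * ai) + x2 * (a * x0 * ai) := by noncomm_ring
  rw [e1, e2, z1, z2, hai, add_zero, add_zero, mul_one] at h
  have h' : (1 : 𝒜) + (x1 + x3) = 1 + (x2 + a * x0 * ai) := by rw [h]; abel
  exact add_left_cancel h'

lemma ring_AL (a ai F2 β d b1 b2 : 𝒜) (hai : ai * a = 1)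
    (h1 : β + d = b1 + a * b2 * ai) (z1 : β * d = 0) (z2 : b1 * (a * b2) = 0) :
    (1 + β) * ((1 + d) * a * F2) = ((1 + b1) * a) * ((1 + b2) * F2) := by
  have e1 : (1 + β) * ((1 + d) * a * F2) = (1 + (β + d) + β * d) * a * F2 := by noncomm_ring
  have e2 : (1 + (b1 + a * b2 * ai) + 0) * a * F2 =
      (a + b1 * a + a * b2 * (ai * a)) * F2 := by noncomm_ring
  have e3 : ((1 + b1) * a) * ((1 + b2) * F2) =
      (a + b1 * a + a * b2 + b1 * (a * b2)) * F2 := by noncomm_ring
  rw [e1, z1, h1, e2, hai, mul_one, e3, z2, add_zero]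

lemma ring_AL1 (U Ui xm x1 x2 : 𝒜) (hU : U * Ui = 1)
    (h : 1 + xm = (1 + x1) * U * (1 + x2) * Ui) (z : x1 * (U * x2 * Ui) = 0) :
    xm = x1 + U * x2 * Ui := by
  have e2 : (1 + x1) * U * (1 + x2) * Ui =
      U * Ui + U * x2 * Ui + x1 * (U * Ui) + x1 * (U * x2 * Ui) := by noncomm_ring
  rw [e2, z, hU, add_zero, mul_one] at h
  have h' : (1 : 𝒜) + xm = 1 + (x1 + U * x2 * Ui) := by rw [h]; abel
  exact add_left_cancel h'

lemma ring_AL1' (Φ Φi α κ : 𝒜) (hΦ : Φi * Φ = 1) (hα : α = κ - Φ * κ * Φi)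
    (z : κ * (Φ * κ) = 0) : (1 + α) * Φ = (1 + κ) * Φ * (1 - κ) := by
  have e1 : (1 + (κ - Φ * κ * Φi)) * Φ = Φ + κ * Φ - Φ * κ * (Φi * Φ) := by noncomm_ring
  have e2 : (1 + κ) * Φ * (1 - κ) = Φ + κ * Φ - Φ * κ - κ * (Φ * κ) := by noncomm_ring
  rw [hα, e1, hΦ, mul_one, e2, z, sub_zero]

end RingLemmas

section Cv

variable {R : Type u} [CommRing R] {C : Type u} [CommRing C] [HopfAlgebra R C]
variable {T T' T'' : Type u} [CommRing T] [Algebra R T] [CommRing T'] [Algebra R T']
  [CommRing T''] [Algebra R T'']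

variable (R C T) in
/-- The convolution ring. -/
abbrev Cv := WithConv (C →ₗ[R] T)

/-- Push-forward along an algebra map, as a ring hom of convolution rings. -/
noncomputable def pushR (φ : T →ₐ[R] T') : Cv R C T →+* Cv R C T' where
  toFun u := toConv (φ.toLinearMap ∘ₗ u.ofConv)
  map_one' := by
    apply WithConv.ext
    ext c
    simp [LinearMap.convOne_def]
  map_mul' u v := by
    apply WithConv.ext
    exact LinearMap.algHom_comp_convMul_distrib φ u v
  map_zero' := by
    apply WithConv.ext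
    simp
  map_add' u v := by
    apply WithConv.ext
    simp [LinearMap.comp_add]

@[simp] lemma pushR_apply (φ : T →ₐ[R] T') (u : Cv R C T) (c : C) : (pushR φ u) c = φ (u c) := rfl

lemma pushR_comp (ψ : T' →ₐ[R] T'') (φ : T →ₐ[R] T') (u : Cv R C T) :
    pushR ψ (pushR φ u) = pushR (ψ.comp φ) u := by
  apply WithConv.ext
  ext c
  rfl

/-- Push-forward along a linear map. -/
noncomputable def pushL (P : T →ₗ[R] T') : Cv R C T →+ Cv R C T' where
  toFun u := toConv (P ∘ₗ u.ofConv)
  map_zero' := by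
    apply WithConv.ext
    simp
  map_add' u v := by
    apply WithConv.ext
    simp [LinearMap.comp_add]

@[simp] lemma pushL_apply (P : T →ₗ[R] T') (u : Cv R C T) (c : C) : (pushL P u) c = P (u c) := rfl

lemma pushL_one (P : T →ₗ[R] T') (hP : P 1 = 1) : pushL P (1 : Cv R C T) = 1 := by
  apply WithConv.ext
  ext c
  show P ((1 : Cv R C T) c) = (1 : Cv R C T') c
  rw [LinearMap.convOne_apply, LinearMap.convOne_apply, Algebra.algebraMap_eq_smul_one, map_smul,
    hP, ← Algebra.algebraMap_eq_smul_one]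

lemma pushL_mul_left (d : T →ₐ[R] T') (P : T' →ₗ[R] T) (hP : ∀ t w, P (d t * w) = t * P w)
    (u : Cv R C T) (w : Cv R C T') : pushL P (pushR d u * w) = u * pushL P w := by
  apply WithConv.ext
  ext c
  show P ((pushR d u * w) c) = (u * pushL P w) c
  rw [(ℛ R c).convMul_apply, (ℛ R c).convMul_apply, map_sum]
  refine Finset.sum_congr rfl (fun i _ => ?_)
  exact hP _ _

lemma pushL_mul_right (d : T →ₐ[R] T') (P : T' →ₗ[R] T) (hP : ∀ t w, P (d t * w) = t * P w)
    (u : Cv R C T) (w : Cv R C T') : pushL P (w * pushR d u) = pushL P w * u := by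
  apply WithConv.ext
  ext c
  show P ((w * pushR d u) c) = (pushL P w * u) c
  rw [(ℛ R c).convMul_apply, (ℛ R c).convMul_apply, map_sum]
  refine Finset.sum_congr rfl (fun i _ => ?_)
  show P (w _ * d (u _)) = P (w _) * u _
  rw [mul_comm, hP, mul_comm]

/-- An algebra map as an element of the convolution ring. -/
noncomputable def cvOf (u : C →ₐ[R] T) : Cv R C T := toConv u.toLinearMap

/-- Its convolution inverse. -/
noncomputable def cvInv (u : C →ₐ[R] T) : Cv R C T :=
  toConv (u.toLinearMap ∘ₗ (HopfAlgebra.antipode R (A := C)))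

@[simp] lemma cvOf_apply (u : C →ₐ[R] T) (c : C) : cvOf u c = u c := rfl
@[simp] lemma cvInv_apply (u : C →ₐ[R] T) (c : C) :
    cvInv u c = u (HopfAlgebra.antipode R c) := rfl

lemma cvOf_mul_cvInv (u : C →ₐ[R] T) : cvOf u * cvInv u = 1 := by
  apply WithConv.ext
  ext c
  show (cvOf u * cvInv u) c = (1 : Cv R C T) c
  rw [(ℛ R c).convMul_apply, LinearMap.convOne_apply]
  simp only [cvOf_apply, cvInv_apply]
  calc ∑ i ∈ (ℛ R c).index, u ((ℛ R c).left i) * u (HopfAlgebra.antipode R ((ℛ R c).right i))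
      = u (∑ i ∈ (ℛ R c).index, (ℛ R c).left i * HopfAlgebra.antipode R ((ℛ R c).right i)) := by
        rw [map_sum]; simp only [map_mul]
    _ = u (algebraMap R C (counit (R := R) c)) := by
        rw [HopfAlgebra.sum_mul_antipode_eq_algebraMap_counit]
    _ = algebraMap R T (counit (R := R) c) := u.commutes _

lemma cvInv_mul_cvOf (u : C →ₐ[R] T) : cvInv u * cvOf u = 1 := by
  apply WithConv.ext
  ext c
  show (cvInv u * cvOf u) c = (1 : Cv R C T) c
  rw [(ℛ R c).convMul_apply, LinearMap.convOne_apply]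
  simp only [cvOf_apply, cvInv_apply]
  calc ∑ i ∈ (ℛ R c).index, u (HopfAlgebra.antipode R ((ℛ R c).left i)) * u ((ℛ R c).right i)
      = u (∑ i ∈ (ℛ R c).index, HopfAlgebra.antipode R ((ℛ R c).left i) * (ℛ R c).right i) := by
        rw [map_sum]; simp only [map_mul]
    _ = u (algebraMap R C (counit (R := R) c)) := by
        rw [HopfAlgebra.sum_antipode_mul_eq_algebraMap_counit]
    _ = algebraMap R T (counit (R := R) c) := u.commutes _

/-- An algebra map as a unit of the convolution ring. -/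
noncomputable def cvU (u : C →ₐ[R] T) : (Cv R C T)ˣ :=
  ⟨cvOf u, cvInv u, cvOf_mul_cvInv u, cvInv_mul_cvOf u⟩

@[simp] lemma cvU_val (u : C →ₐ[R] T) : (cvU u).val = cvOf u := rfl
lemma cvU_inv_val (u : C →ₐ[R] T) : ((cvU u)⁻¹ : (Cv R C T)ˣ).val = cvInv u := rfl

lemma pushR_cvOf (φ : T →ₐ[R] T') (u : C →ₐ[R] T) : pushR φ (cvOf u) = cvOf (φ.comp u) := rfl
lemma pushR_cvInv (φ : T →ₐ[R] T') (u : C →ₐ[R] T) : pushR φ (cvInv u) = cvInv (φ.comp u) := rfl

/-- Product of algebra maps (product of points). -/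
noncomputable def mulA (a b : C →ₐ[R] T) : C →ₐ[R] T := (toConv a * toConv b).ofConv

lemma cvOf_mulA (a b : C →ₐ[R] T) : cvOf (mulA a b) = cvOf a * cvOf b :=
  AlgHom.toLinearMap_convMul (toConv a) (toConv b)

/-- Inverse of an algebra map (inverse of a point). -/
noncomputable def invA (a : C →ₐ[R] T) : C →ₐ[R] T := a.comp (HopfAlgebra.antipodeAlgHom R C)

lemma cvOf_invA (a : C →ₐ[R] T) : cvOf (invA a) = cvInv a := by
  apply WithConv.ext
  ext c
  rfl

lemma comp_mulA (φ : T →ₐ[R] T') (a b : C →ₐ[R] T) :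
    cvOf (φ.comp (mulA a b)) = cvOf (φ.comp a) * cvOf (φ.comp b) := by
  rw [← pushR_cvOf, cvOf_mulA, map_mul]
  rfl

/-! ### Maps with values in `J T` -/

/-- `J T` has square zero. -/
def SqZ (J : Ideal R) (T : Type u) [CommRing T] [Algebra R T] : Prop :=
  ∀ x ∈ J.map (algebraMap R T), ∀ y ∈ J.map (algebraMap R T), x * y = 0

lemma alg_mem_map (J : Ideal R) (φ : T →ₐ[R] T') {x : T} (hx : x ∈ J.map (algebraMap R T)) :
    φ x ∈ J.map (algebraMap R T') := by
  have h1 := Ideal.mem_map_of_mem (φ : T →+* T') hx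
  rwa [Ideal.map_map, AlgHom.comp_algebraMap] at h1

lemma lin_mem_map (J : Ideal R) (P : T →ₗ[R] T') {x : T} (hx : x ∈ J.map (algebraMap R T)) :
    P x ∈ J.map (algebraMap R T') := by
  have hx' : x ∈ J • (⊤ : Submodule R T) := by
    rw [Ideal.smul_top_eq_map]
    exact hx
  have : P x ∈ J • (⊤ : Submodule R T') := by
    refine Submodule.smul_induction_on hx' ?_ ?_
    · intro r hr n _
      rw [map_smul]
      exact Submodule.smul_mem_smul hr Submodule.mem_top
    · intro a b ha hb
      rw [map_add]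
      exact Submodule.add_mem _ ha hb
  rw [Ideal.smul_top_eq_map] at this
  exact this

/-- The maps with values in `J T`. -/
def IsJ (J : Ideal R) (u : Cv R C T) : Prop := ∀ c, u c ∈ J.map (algebraMap R T)

variable {J : Ideal R}

lemma IsJ.zero : IsJ J (0 : Cv R C T) := fun c => Ideal.zero_mem _

lemma IsJ.add {u v : Cv R C T} (hu : IsJ J u) (hv : IsJ J v) : IsJ J (u + v) :=
  fun c => Ideal.add_mem _ (hu c) (hv c)

lemma IsJ.sub {u v : Cv R C T} (hu : IsJ J u) (hv : IsJ J v) : IsJ J (u - v) :=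
  fun c => Ideal.sub_mem _ (hu c) (hv c)

lemma IsJ.neg {u : Cv R C T} (hu : IsJ J u) : IsJ J (-u) :=
  fun c => Ideal.neg_mem_iff _ |>.mpr (hu c)

lemma IsJ.mono {J' : Ideal R} (h : J ≤ J') {u : Cv R C T} (hu : IsJ J u) : IsJ J' u :=
  fun c => Ideal.map_mono h (hu c)

lemma IsJ.mul_left (w : Cv R C T) {u : Cv R C T} (hu : IsJ J u) : IsJ J (w * u) := by
  intro c
  rw [(ℛ R c).convMul_apply]
  exact Ideal.sum_mem _ (fun i _ => Ideal.mul_mem_left _ _ (hu _))

lemma IsJ.mul_right (w : Cv R C T) {u : Cv R C T} (hu : IsJ J u) : IsJ J (u * w) := by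
  intro c
  rw [(ℛ R c).convMul_apply]
  exact Ideal.sum_mem _ (fun i _ => Ideal.mul_mem_right _ _ (hu _))

lemma IsJ.pushR (φ : T →ₐ[R] T') {u : Cv R C T} (hu : IsJ J u) : IsJ J (pushR φ u) :=
  fun c => alg_mem_map J φ (hu c)

lemma IsJ.pushL (P : T →ₗ[R] T') {u : Cv R C T} (hu : IsJ J u) : IsJ J (pushL P u) :=
  fun c => lin_mem_map J P (hu c)

lemma IsJ.mul_eq_zero (sq : SqZ J T) {u v : Cv R C T} (hu : IsJ J u) (hv : IsJ J v) :
    u * v = 0 := by
  apply WithConv.ext
  ext c
  show (u * v) c = 0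
  rw [(ℛ R c).convMul_apply]
  exact Finset.sum_eq_zero (fun i _ => sq _ (hu _) _ (hv _))

lemma isJ_bot_iff {u : Cv R C T} : IsJ (⊥ : Ideal R) u ↔ u = 0 := by
  constructor
  · intro h
    apply WithConv.ext
    ext c
    have := h c
    rw [Ideal.map_bot, Ideal.mem_bot] at this
    exact this
  · rintro rfl
    exact IsJ.zero

lemma isJ_cvInv_sub_one {g : C →ₐ[R] T} (h : IsJ J (cvOf g - 1)) : IsJ J (cvInv g - 1) := by
  have : cvInv g - 1 = cvInv g * (-(cvOf g - 1)) := by
    rw [mul_neg, mul_sub, cvInv_mul_cvOf, mul_one]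
    abel
  rw [this]
  exact IsJ.mul_left _ h.neg

/-- If `cA ≡ ε mod J` and `Λ` is linear with `Λ 1 = 1`, then `Λ ∘ cA` is an algebra map. -/
noncomputable def algE (J : Ideal R) (sqT : SqZ J T) (sqT' : SqZ J T') (Λ : T →ₗ[R] T')
    (hΛ : Λ 1 = 1) (cA : C →ₐ[R] T) (hc : IsJ J (cvOf cA - 1)) : C →ₐ[R] T' :=
  AlgHom.ofLinearMap (Λ ∘ₗ cA.toLinearMap) (by simp [hΛ]) (by
    intro x y
    simp only [LinearMap.comp_apply, AlgHom.toLinearMap_apply, map_mul]
    obtain ⟨dx, hdx, hx⟩ : ∃ dx ∈ J.map (algebraMap R T),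
        cA x = algebraMap R T (counit (R := R) x) + dx :=
      ⟨cA x - algebraMap R T (counit (R := R) x), hc x, by ring⟩
    obtain ⟨dy, hdy, hy⟩ : ∃ dy ∈ J.map (algebraMap R T),
        cA y = algebraMap R T (counit (R := R) y) + dy :=
      ⟨cA y - algebraMap R T (counit (R := R) y), hc y, by ring⟩
    have hΛa : ∀ r : R, Λ (algebraMap R T r) = algebraMap R T' r := fun r => by
      rw [Algebra.algebraMap_eq_smul_one, map_smul, hΛ, ← Algebra.algebraMap_eq_smul_one]
    have hΛs : ∀ (r : R) (t : T), Λ (algebraMap R T r * t) = algebraMap R T' r * Λ t :=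
      fun r t => by rw [← Algebra.smul_def, map_smul, Algebra.smul_def]
    have h0 : dx * dy = 0 := sqT _ hdx _ hdy
    have h0' : Λ dx * Λ dy = 0 := sqT' _ (lin_mem_map J Λ hdx) _ (lin_mem_map J Λ hdy)
    rw [hx, hy]
    have e1 : (algebraMap R T (counit (R := R) x) + dx) * (algebraMap R T (counit (R := R) y) + dy)
        = algebraMap R T (counit (R := R) x * counit (R := R) y) +
          algebraMap R T (counit (R := R) x) * dy + algebraMap R T (counit (R := R) y) * dx := by
      rw [map_mul]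
      linear_combination h0
    rw [e1, map_add, map_add, map_add, map_add, hΛa, hΛa, hΛa, hΛs, hΛs, map_mul]
    linear_combination (-1 : T') * h0')

lemma cvOf_algE (J : Ideal R) (sqT : SqZ J T) (sqT' : SqZ J T') (Λ : T →ₗ[R] T')
    (hΛ : Λ 1 = 1) (cA : C →ₐ[R] T) (hc : IsJ J (cvOf cA - 1)) :
    cvOf (algE J sqT sqT' Λ hΛ cA hc) = pushL Λ (cvOf cA) := by
  apply WithConv.ext
  ext c
  rfl

end Cv

section MkBialg

variable {R : Type u} [CommRing R] {C : Type u} [CommRing C] [HopfAlgebra R C]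
variable {A : Type u} [CommRing A] [Bialgebra R A]

/-- Comultiplicativity of an algebra map, in the convolution ring of `A ⊗ A`. -/
def IsComult (F : C →ₐ[R] A) : Prop :=
  cvOf ((Bialgebra.comulAlgHom R A).comp F) =
    cvOf ((Algebra.TensorProduct.includeLeft : A →ₐ[R] A ⊗[R] A).comp F) *
      cvOf ((Algebra.TensorProduct.includeRight : A →ₐ[R] A ⊗[R] A).comp F)

lemma conv_incl_apply (F G : C →ₐ[R] A) (x : C) :
    (cvOf ((Algebra.TensorProduct.includeLeft : A →ₐ[R] A ⊗[R] A).comp F) *
      cvOf ((Algebra.TensorProduct.includeRight : A →ₐ[R] A ⊗[R] A).comp G)) x =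
      TensorProduct.map F.toLinearMap G.toLinearMap (comul (R := R) x) := by
  rw [LinearMap.convMul_apply]
  have key : ∀ z : C ⊗[R] C, LinearMap.mul' R (A ⊗[R] A)
      (TensorProduct.map
        (cvOf ((Algebra.TensorProduct.includeLeft : A →ₐ[R] A ⊗[R] A).comp F)).ofConv
        (cvOf ((Algebra.TensorProduct.includeRight : A →ₐ[R] A ⊗[R] A).comp G)).ofConv z) =
      TensorProduct.map F.toLinearMap G.toLinearMap z := by
    intro z
    induction z using TensorProduct.induction_on with
    | zero => simp only [map_zero]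
    | tmul a b =>
      rw [TensorProduct.map_tmul, TensorProduct.map_tmul, LinearMap.mul'_apply]
      show (F a ⊗ₜ[R] (1 : A)) * ((1 : A) ⊗ₜ[R] G b) = F a ⊗ₜ[R] G b
      rw [Algebra.TensorProduct.tmul_mul_tmul, mul_one, one_mul]
    | add y z hy hz => simp only [map_add, hy, hz]
  exact key _

lemma isComult_iff (F : C →ₐ[R] A) :
    IsComult F ↔ ∀ x, comul (R := R) (F x) =
      TensorProduct.map F.toLinearMap F.toLinearMap (comul (R := R) x) := by
  constructor
  · intro h x
    have h' : cvOf ((Bialgebra.comulAlgHom R A).comp F) =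
        cvOf ((Algebra.TensorProduct.includeLeft : A →ₐ[R] A ⊗[R] A).comp F) *
          cvOf ((Algebra.TensorProduct.includeRight : A →ₐ[R] A ⊗[R] A).comp F) := h
    have h2 : comul (R := R) (F x) =
        (cvOf ((Algebra.TensorProduct.includeLeft : A →ₐ[R] A ⊗[R] A).comp F) *
          cvOf ((Algebra.TensorProduct.includeRight : A →ₐ[R] A ⊗[R] A).comp F)) x := by
      rw [← h']
      rfl
    rw [conv_incl_apply] at h2
    exact h2
  · intro h
    apply WithConv.ext
    ext x
    show comul (R := R) (F x) =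
      (cvOf ((Algebra.TensorProduct.includeLeft : A →ₐ[R] A ⊗[R] A).comp F) *
        cvOf ((Algebra.TensorProduct.includeRight : A →ₐ[R] A ⊗[R] A).comp F)) x
    rw [conv_incl_apply]
    exact h x

lemma isComult_of_bialgHom (φ : C →ₐc[R] A) : IsComult (φ : C →ₐ[R] A) := by
  rw [isComult_iff]
  intro x
  exact (CoalgHomClass.map_comp_comul_apply φ x).symm

theorem exists_bialgHom_of_isComult (F : C →ₐ[R] A) (hF : IsComult F) :
    ∃ φ : C →ₐc[R] A, ∀ x, φ x = F x := by
  have hcomul : (Algebra.TensorProduct.map F F).comp (Bialgebra.comulAlgHom R C) =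
      (Bialgebra.comulAlgHom R A).comp F := by
    apply AlgHom.ext
    intro x
    have h1 := (isComult_iff F).mp hF x
    show Algebra.TensorProduct.map F F (comul (R := R) x) = comul (R := R) (F x)
    rw [h1]
    rfl
  -- the counit
  let μ₂ : A ⊗[R] A →ₐ[R] R :=
    Algebra.TensorProduct.lift (Bialgebra.counitAlgHom R A) (Bialgebra.counitAlgHom R A)
      (fun _ _ => Commute.all _ _)
  have hμΔ : μ₂.comp (Bialgebra.comulAlgHom R A) = Bialgebra.counitAlgHom R A := by
    apply AlgHom.ext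
    intro a
    have hμ : ∀ z : A ⊗[R] A, μ₂ z = LinearMap.mul' R R
        ((counit (R := R) (A := A)).lTensor R ((counit (R := R) (A := A)).rTensor A z)) := by
      intro z
      induction z using TensorProduct.induction_on with
      | zero => simp only [map_zero]
      | tmul a b =>
        rw [LinearMap.rTensor_tmul, LinearMap.lTensor_tmul, LinearMap.mul'_apply]
        exact Algebra.TensorProduct.lift_tmul _ _ _ _ _
      | add y z hy hz => simp only [map_add, hy, hz]
    show μ₂ (comul (R := R) a) = counit (R := R) a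
    rw [hμ, Coalgebra.rTensor_counit_comul, LinearMap.lTensor_tmul, LinearMap.mul'_apply, one_mul]
  have hμ1 : μ₂.comp (Algebra.TensorProduct.includeLeft : A →ₐ[R] A ⊗[R] A) =
      Bialgebra.counitAlgHom R A := by
    apply AlgHom.ext
    intro a
    have h3 : μ₂ (a ⊗ₜ[R] (1 : A)) =
        Bialgebra.counitAlgHom R A a * Bialgebra.counitAlgHom R A 1 :=
      Algebra.TensorProduct.lift_tmul _ _ _ _ _
    rw [map_one, mul_one] at h3
    exact h3
  have hμ2 : μ₂.comp (Algebra.TensorProduct.includeRight : A →ₐ[R] A ⊗[R] A) =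
      Bialgebra.counitAlgHom R A := by
    apply AlgHom.ext
    intro a
    have h3 : μ₂ ((1 : A) ⊗ₜ[R] a) =
        Bialgebra.counitAlgHom R A 1 * Bialgebra.counitAlgHom R A a :=
      Algebra.TensorProduct.lift_tmul _ _ _ _ _
    rw [map_one, one_mul] at h3
    exact h3
  have hee : cvOf ((Bialgebra.counitAlgHom R A).comp F) =
      cvOf ((Bialgebra.counitAlgHom R A).comp F) * cvOf ((Bialgebra.counitAlgHom R A).comp F) := by
    have := congrArg (pushR μ₂) hF
    rw [map_mul, pushR_cvOf, pushR_cvOf, pushR_cvOf, ← AlgHom.comp_assoc, ← AlgHom.comp_assoc,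
      ← AlgHom.comp_assoc, hμΔ, hμ1, hμ2] at this
    exact this
  have he1 : cvOf ((Bialgebra.counitAlgHom R A).comp F) = 1 := by
    calc cvOf ((Bialgebra.counitAlgHom R A).comp F)
        = cvOf ((Bialgebra.counitAlgHom R A).comp F) *
            (cvOf ((Bialgebra.counitAlgHom R A).comp F) *
              cvInv ((Bialgebra.counitAlgHom R A).comp F)) := by
          rw [cvOf_mul_cvInv, mul_one]
      _ = (cvOf ((Bialgebra.counitAlgHom R A).comp F) *
            cvOf ((Bialgebra.counitAlgHom R A).comp F)) *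
              cvInv ((Bialgebra.counitAlgHom R A).comp F) := (mul_assoc _ _ _).symm
      _ = cvOf ((Bialgebra.counitAlgHom R A).comp F) *
              cvInv ((Bialgebra.counitAlgHom R A).comp F) := by rw [← hee]
      _ = 1 := cvOf_mul_cvInv _
  have hcounit : (Bialgebra.counitAlgHom R A).comp F = Bialgebra.counitAlgHom R C := by
    apply AlgHom.ext
    intro x
    have h2 : (cvOf ((Bialgebra.counitAlgHom R A).comp F)) x = (1 : Cv R C R) x := by
      rw [he1]
    exact h2
  exact ⟨BialgHom.ofAlgHom F hcounit hcomul, fun x => rfl⟩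

end MkBialg

end Groth.Agent.Lib.Helper6.HInt
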