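import Mathlib
import Groth.Prelude.Def_SGA3b
import Groth.Agent.Lib.Helper6.HInt.HI2

/-!
# Vanishing of `H²` and `H¹` with an invariant integral: abstract square-zero lemmas (helper6)

`sz2`: an algebra map `f : C → T1` which is multiplicative (as a map of points `H → G`) modulo a
square-zero ideal `J` can be corrected, modulo `J`, to a multiplicative one, provided the
cosimplicial system `T1 ⇉ T2 ⇶ T3` carries an "integration over the last variable".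
`sz1`: two multiplicative maps congruent modulo `J` are conjugate by a point of `G` which is
trivial modulo `J`.
-/

set_option autoImplicit false
set_option linter.unusedSectionVars false
set_option linter.unusedVariables false
set_option linter.unusedSimpArgs false
set_option linter.style.haveILetI false
set_option linter.overlappingInstances false
set_option maxHeartbeats 800000
set_option synthInstance.maxHeartbeats 400000

universe u
open TensorProduct SGA3b Coalgebra WithConv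

namespace Groth.Agent.Lib.Helper6.HInt

section SZ2

variable {R : Type u} [CommRing R] {C : Type u} [CommRing C] [HopfAlgebra R C]
variable {T1 T2 T3 : Type u} [CommRing T1] [Algebra R T1] [CommRing T2] [Algebra R T2]
  [CommRing T3] [Algebra R T3]

/-- The cocycle `c(h,h') = f(hh') f(h')⁻¹ f(h)⁻¹` as an algebra map. -/
noncomputable def cocA (m p1 p2 : T1 →ₐ[R] T2) (f : C →ₐ[R] T1) : C →ₐ[R] T2 :=
  mulA (mulA (m.comp f) (invA (p2.comp f))) (invA (p1.comp f))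

lemma cvOf_cocA (m p1 p2 : T1 →ₐ[R] T2) (f : C →ₐ[R] T1) :
    cvOf (cocA m p1 p2 f) = cvOf (m.comp f) * cvInv (p2.comp f) * cvInv (p1.comp f) := by
  rw [cocA, cvOf_mulA, cvOf_mulA, cvOf_invA, cvOf_invA]

lemma cocA_sub_one (m p1 p2 : T1 →ₐ[R] T2) (f : C →ₐ[R] T1) :
    cvOf (cocA m p1 p2 f) - 1 =
      (cvOf (m.comp f) - cvOf (p1.comp f) * cvOf (p2.comp f)) * cvInv (p2.comp f) *
        cvInv (p1.comp f) := by
  rw [cvOf_cocA, sub_mul, sub_mul, mul_assoc (cvOf (p1.comp f)) (cvOf (p2.comp f)),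
    cvOf_mul_cvInv, mul_one, cvOf_mul_cvInv]

lemma isJ_cocA (J : Ideal R) (m p1 p2 : T1 →ₐ[R] T2) (f : C →ₐ[R] T1)
    (hf : IsJ J (cvOf (m.comp f) - cvOf (p1.comp f) * cvOf (p2.comp f))) :
    IsJ J (cvOf (cocA m p1 p2 f) - 1) := by
  rw [cocA_sub_one]
  exact (hf.mul_right _).mul_right _

lemma cvOf_m_eq (m p1 p2 : T1 →ₐ[R] T2) (f : C →ₐ[R] T1) :
    cvOf (m.comp f) = cvOf (cocA m p1 p2 f) * cvOf (p1.comp f) * cvOf (p2.comp f) := by
  rw [cvOf_cocA, mul_assoc (cvOf (m.comp f) * cvInv (p2.comp f)), cvInv_mul_cvOf, mul_one,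
    mul_assoc, cvInv_mul_cvOf, mul_one]

lemma cocycle_mul (m p1 p2 : T1 →ₐ[R] T2) (d0 d1 d2 d3 : T2 →ₐ[R] T3)
    (s1 : d1.comp m = d2.comp m) (s2 : d1.comp p2 = d0.comp p2) (s3 : d1.comp p1 = d3.comp m)
    (s4 : d3.comp p2 = d0.comp p1) (s5 : d3.comp p1 = d2.comp p1) (s6 : d2.comp p2 = d0.comp m)
    (f : C →ₐ[R] T1) :
    pushR d1 (cvOf (cocA m p1 p2 f)) * pushR d3 (cvOf (cocA m p1 p2 f)) =
      pushR d2 (cvOf (cocA m p1 p2 f)) * cvOf ((d3.comp p1).comp f) *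
        pushR d0 (cvOf (cocA m p1 p2 f)) * cvInv ((d3.comp p1).comp f) := by
  have hP : ∀ φ : T2 →ₐ[R] T3, pushR φ (cvOf (cocA m p1 p2 f)) =
      cvOf ((φ.comp m).comp f) * cvInv ((φ.comp p2).comp f) * cvInv ((φ.comp p1).comp f) := by
    intro φ
    rw [cvOf_cocA, map_mul, map_mul]
    rfl
  rw [hP d1, hP d3, hP d2, hP d0, s3, ← s1, s6, ← s5, ← s2, ← s4]
  have key : (cvU ((d1.comp m).comp f) * (cvU ((d1.comp p2).comp f))⁻¹ *
        (cvU ((d3.comp m).comp f))⁻¹) *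
      (cvU ((d3.comp m).comp f) * (cvU ((d3.comp p2).comp f))⁻¹ *
        (cvU ((d3.comp p1).comp f))⁻¹) =
      (cvU ((d1.comp m).comp f) * (cvU ((d0.comp m).comp f))⁻¹ *
        (cvU ((d3.comp p1).comp f))⁻¹) * cvU ((d3.comp p1).comp f) *
      (cvU ((d0.comp m).comp f) * (cvU ((d1.comp p2).comp f))⁻¹ *
        (cvU ((d3.comp p2).comp f))⁻¹) * (cvU ((d3.comp p1).comp f))⁻¹ := by
    group
  exact congrArg Units.val key

lemma cocycle_add (J : Ideal R) (sq3 : SqZ J T3)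
    (m p1 p2 : T1 →ₐ[R] T2) (d0 d1 d2 d3 : T2 →ₐ[R] T3)
    (P3 : T3 →ₗ[R] T2) (P2 : T2 →ₗ[R] T1)
    (s1 : d1.comp m = d2.comp m) (s2 : d1.comp p2 = d0.comp p2) (s3 : d1.comp p1 = d3.comp m)
    (s4 : d3.comp p2 = d0.comp p1) (s5 : d3.comp p1 = d2.comp p1) (s6 : d2.comp p2 = d0.comp m)
    (i1 : ∀ t w, P3 (d3 t * w) = t * P3 w) (i1' : P3 1 = 1)
    (i2 : ∀ w, P3 (d1 w) = m (P2 w)) (i3 : ∀ w, P3 (d2 w) = p1 (P2 w))
    (i4 : ∀ w, P3 (d0 w) = p2 (P2 w))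
    (f : C →ₐ[R] T1) (hd : IsJ J (cvOf (cocA m p1 p2 f) - 1)) :
    pushR m (pushL P2 (cvOf (cocA m p1 p2 f) - 1)) + (cvOf (cocA m p1 p2 f) - 1) =
      pushR p1 (pushL P2 (cvOf (cocA m p1 p2 f) - 1)) +
        cvOf (p1.comp f) * pushR p2 (pushL P2 (cvOf (cocA m p1 p2 f) - 1)) *
          cvInv (p1.comp f) := by
  obtain ⟨d, hdd⟩ : ∃ d, d = cvOf (cocA m p1 p2 f) - 1 := ⟨_, rfl⟩
  have hcd : cvOf (cocA m p1 p2 f) = 1 + d := by rw [hdd]; abel
  rw [← hdd] at hd ⊢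
  have hmul := cocycle_mul m p1 p2 d0 d1 d2 d3 s1 s2 s3 s4 s5 s6 f
  rw [hcd] at hmul
  simp only [map_add, map_one] at hmul
  have hadd := ring_AL0 (cvOf ((d3.comp p1).comp f)) (cvInv ((d3.comp p1).comp f))
    (pushR d0 d) (pushR d1 d) (pushR d2 d) (pushR d3 d) (cvOf_mul_cvInv _) hmul
    (IsJ.mul_eq_zero sq3 (hd.pushR d1) (hd.pushR d3))
    (IsJ.mul_eq_zero sq3 (hd.pushR d2) (((hd.pushR d0).mul_left _).mul_right _))
  have hint := congrArg (pushL P3) hadd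
  rw [map_add, map_add] at hint
  have c1 : pushL P3 (pushR d1 d) = pushR m (pushL P2 d) := by
    apply WithConv.ext
    ext c
    exact i2 _
  have c3 : pushL P3 (pushR d3 d) = d := by
    apply WithConv.ext
    ext c
    show P3 (d3 (d c)) = d c
    have := i1 (d c) 1
    rw [mul_one, i1', mul_one] at this
    exact this
  have c2 : pushL P3 (pushR d2 d) = pushR p1 (pushL P2 d) := by
    apply WithConv.ext
    ext c
    exact i3 _
  have c0 : pushL P3 (pushR d0 d) = pushR p2 (pushL P2 d) := by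
    apply WithConv.ext
    ext c
    exact i4 _
  have ca : pushL P3 (cvOf ((d3.comp p1).comp f) * pushR d0 d * cvInv ((d3.comp p1).comp f)) =
      cvOf (p1.comp f) * pushR p2 (pushL P2 d) * cvInv (p1.comp f) := by
    have e1 : cvOf ((d3.comp p1).comp f) = pushR d3 (cvOf (p1.comp f)) := rfl
    have e2 : cvInv ((d3.comp p1).comp f) = pushR d3 (cvInv (p1.comp f)) := rfl
    rw [e1, e2, pushL_mul_right d3 P3 i1, pushL_mul_left d3 P3 i1, c0]
  rw [c1, c3, c2, ca] at hint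
  exact hint

/-- **Abstract `H²`-vanishing.** -/
theorem sz2 (J : Ideal R) (sq1 : SqZ J T1) (sq2 : SqZ J T2) (sq3 : SqZ J T3)
    (m p1 p2 : T1 →ₐ[R] T2) (d0 d1 d2 d3 : T2 →ₐ[R] T3)
    (P3 : T3 →ₗ[R] T2) (P2 : T2 →ₗ[R] T1)
    (s1 : d1.comp m = d2.comp m) (s2 : d1.comp p2 = d0.comp p2) (s3 : d1.comp p1 = d3.comp m)
    (s4 : d3.comp p2 = d0.comp p1) (s5 : d3.comp p1 = d2.comp p1) (s6 : d2.comp p2 = d0.comp m)
    (i1 : ∀ t w, P3 (d3 t * w) = t * P3 w) (i1' : P3 1 = 1)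
    (i2 : ∀ w, P3 (d1 w) = m (P2 w)) (i3 : ∀ w, P3 (d2 w) = p1 (P2 w))
    (i4 : ∀ w, P3 (d0 w) = p2 (P2 w)) (i5 : P2 1 = 1)
    (f : C →ₐ[R] T1)
    (hf : IsJ J (cvOf (m.comp f) - cvOf (p1.comp f) * cvOf (p2.comp f))) :
    ∃ F' : C →ₐ[R] T1, IsJ J (cvOf F' - cvOf f) ∧
      cvOf (m.comp F') = cvOf (p1.comp F') * cvOf (p2.comp F') := by
  have hd := isJ_cocA J m p1 p2 f hf
  have hcoc := cocycle_add J sq3 m p1 p2 d0 d1 d2 d3 P3 P2 s1 s2 s3 s4 s5 s6 i1 i1' i2 i3 i4 f hd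
  obtain ⟨E, hE0⟩ : ∃ E : C →ₐ[R] T1, cvOf E = pushL P2 (cvOf (cocA m p1 p2 f)) :=
    ⟨algE J sq2 sq1 P2 i5 (cocA m p1 p2 f) hd, cvOf_algE J sq2 sq1 P2 i5 _ hd⟩
  obtain ⟨d, hdd⟩ : ∃ d, d = cvOf (cocA m p1 p2 f) - 1 := ⟨_, rfl⟩
  have hcd : cvOf (cocA m p1 p2 f) = 1 + d := by rw [hdd]; abel
  rw [← hdd] at hd hcoc
  have hb : IsJ J (pushL P2 d) := hd.pushL P2
  have hE : cvOf E = 1 + pushL P2 d := by
    rw [hE0, hcd, map_add, pushL_one P2 i5]
  refine ⟨mulA E f, ?_, ?_⟩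
  · rw [cvOf_mulA, hE]
    have : (1 + pushL P2 d) * cvOf f - cvOf f = pushL P2 d * cvOf f := by noncomm_ring
    rw [this]
    exact hb.mul_right _
  · have e0 : cvOf (m.comp (mulA E f)) = pushR m (cvOf (mulA E f)) := rfl
    have e1 : cvOf (p1.comp (mulA E f)) = pushR p1 (cvOf (mulA E f)) := rfl
    have e2 : cvOf (p2.comp (mulA E f)) = pushR p2 (cvOf (mulA E f)) := rfl
    rw [e0, e1, e2, cvOf_mulA, hE, map_mul, map_mul, map_mul, map_add, map_add, map_add, map_one,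
      map_one, map_one]
    have hm : pushR m (cvOf f) = (1 + d) * cvOf (p1.comp f) * cvOf (p2.comp f) := by
      rw [← hcd]
      exact cvOf_m_eq m p1 p2 f
    rw [hm]
    exact ring_AL (cvOf (p1.comp f)) (cvInv (p1.comp f)) (cvOf (p2.comp f)) (pushR m (pushL P2 d)) d
      (pushR p1 (pushL P2 d)) (pushR p2 (pushL P2 d)) (cvInv_mul_cvOf _) hcoc
      (IsJ.mul_eq_zero sq2 (hb.pushR m) hd)
      (IsJ.mul_eq_zero sq2 (hb.pushR p1) ((hb.pushR p2).mul_left _))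

end SZ2

section SZ1

variable {R : Type u} [CommRing R] {C : Type u} [CommRing C] [HopfAlgebra R C]
variable {T0 T1 T2 : Type u} [CommRing T0] [Algebra R T0] [CommRing T1] [Algebra R T1]
  [CommRing T2] [Algebra R T2]

/-- **Abstract `H¹`-vanishing.** -/
theorem sz1 (J : Ideal R) (sq0 : SqZ J T0) (sq1 : SqZ J T1) (sq2 : SqZ J T2)
    (η : T0 →ₐ[R] T1) (m p1 p2 : T1 →ₐ[R] T2) (P2 : T2 →ₗ[R] T1) (P1 : T1 →ₗ[R] T0)
    (j1 : ∀ t w, P2 (p1 t * w) = t * P2 w) (j1' : P2 1 = 1)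
    (j2 : ∀ w, P2 (m w) = η (P1 w)) (j3 : ∀ w, P2 (p2 w) = η (P1 w)) (j5 : P1 1 = 1)
    (F F' : C →ₐ[R] T1)
    (hF : cvOf (m.comp F) = cvOf (p1.comp F) * cvOf (p2.comp F))
    (hF' : cvOf (m.comp F') = cvOf (p1.comp F') * cvOf (p2.comp F'))
    (hFF : IsJ J (cvOf F' - cvOf F)) :
    ∃ g : C →ₐ[R] T0, IsJ J (cvOf g - 1) ∧
      cvOf F' = pushR η (cvOf g) * cvOf F * pushR η (cvInv g) := by
  -- the cocycle `a(h) = F'(h) F(h)⁻¹`
  obtain ⟨aA, haA⟩ : ∃ aA : C →ₐ[R] T1, cvOf aA = cvOf F' * cvInv F :=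
    ⟨mulA F' (invA F), by rw [cvOf_mulA, cvOf_invA]⟩
  obtain ⟨α, hα⟩ : ∃ α, α = cvOf aA - 1 := ⟨_, rfl⟩
  have hcd : cvOf aA = 1 + α := by rw [hα]; abel
  have hαJ : IsJ J α := by
    have : α = (cvOf F' - cvOf F) * cvInv F := by
      rw [hα, haA, sub_mul, cvOf_mul_cvInv]
    rw [this]
    exact hFF.mul_right _
  have hαJ' : IsJ J (cvOf aA - 1) := by rw [← hα]; exact hαJ
  -- multiplicative cocycle identity
  have hmul : pushR m (cvOf aA) =
      pushR p1 (cvOf aA) * cvOf (p1.comp F) * pushR p2 (cvOf aA) * cvInv (p1.comp F) := by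
    have hP : ∀ φ : T1 →ₐ[R] T2, pushR φ (cvOf aA) = cvOf (φ.comp F') * cvInv (φ.comp F) := by
      intro φ
      rw [haA, map_mul]
      rfl
    rw [hP m, hP p1, hP p2]
    have hUm : cvU (m.comp F) = cvU (p1.comp F) * cvU (p2.comp F) := Units.ext hF
    have hUm' : cvU (m.comp F') = cvU (p1.comp F') * cvU (p2.comp F') := Units.ext hF'
    have key : cvU (m.comp F') * (cvU (m.comp F))⁻¹ =
        (cvU (p1.comp F') * (cvU (p1.comp F))⁻¹) * cvU (p1.comp F) *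
          (cvU (p2.comp F') * (cvU (p2.comp F))⁻¹) * (cvU (p1.comp F))⁻¹ := by
      rw [hUm, hUm']
      group
    exact congrArg Units.val key
  rw [hcd] at hmul
  simp only [map_add, map_one] at hmul
  have hadd := ring_AL1 (cvOf (p1.comp F)) (cvInv (p1.comp F)) (pushR m α) (pushR p1 α)
    (pushR p2 α) (cvOf_mul_cvInv _) hmul
    (IsJ.mul_eq_zero sq2 (hαJ.pushR p1) (((hαJ.pushR p2).mul_left _).mul_right _))
  have hint := congrArg (pushL P2) hadd
  rw [map_add] at hint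
  have c1 : pushL P2 (pushR m α) = pushR η (pushL P1 α) := by
    apply WithConv.ext
    ext c
    exact j2 _
  have c3 : pushL P2 (pushR p1 α) = α := by
    apply WithConv.ext
    ext c
    show P2 (p1 (α c)) = α c
    have := j1 (α c) 1
    rw [mul_one, j1', mul_one] at this
    exact this
  have c0 : pushL P2 (pushR p2 α) = pushR η (pushL P1 α) := by
    apply WithConv.ext
    ext c
    exact j3 _
  have ca : pushL P2 (cvOf (p1.comp F) * pushR p2 α * cvInv (p1.comp F)) =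
      cvOf F * pushR η (pushL P1 α) * cvInv F := by
    have e1 : cvOf (p1.comp F) = pushR p1 (cvOf F) := rfl
    have e2 : cvInv (p1.comp F) = pushR p1 (cvInv F) := rfl
    rw [e1, e2, pushL_mul_right p1 P2 j1, pushL_mul_left p1 P2 j1, c0]
  rw [c1, c3, ca] at hint
  -- the conjugating point
  have hk : IsJ J (pushL P1 α) := hαJ.pushL P1
  obtain ⟨gA, hgA0⟩ : ∃ gA : C →ₐ[R] T0, cvOf gA = pushL P1 (cvOf aA) :=
    ⟨algE J sq1 sq0 P1 j5 aA hαJ', cvOf_algE J sq1 sq0 P1 j5 aA hαJ'⟩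
  have hgA : cvOf gA = 1 + pushL P1 α := by
    rw [hgA0, hcd, map_add, pushL_one P1 j5]
  have hk0 : pushL P1 α * pushL P1 α = 0 := IsJ.mul_eq_zero sq0 hk hk
  have hgi : cvInv gA = 1 - pushL P1 α := by
    have h1 : (1 + pushL P1 α) * (1 - pushL P1 α) = 1 := by
      have : (1 + pushL P1 α) * (1 - pushL P1 α) = 1 - pushL P1 α * pushL P1 α := by
        noncomm_ring
      rw [this, hk0, sub_zero]
    calc cvInv gA = cvInv gA * ((1 + pushL P1 α) * (1 - pushL P1 α)) := by rw [h1, mul_one]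
      _ = (cvInv gA * cvOf gA) * (1 - pushL P1 α) := by rw [hgA, mul_assoc]
      _ = 1 - pushL P1 α := by rw [cvInv_mul_cvOf, one_mul]
  refine ⟨gA, ?_, ?_⟩
  · rw [hgA, add_sub_cancel_left]
    exact hk
  · have hF'a : cvOf F' = (1 + α) * cvOf F := by
      rw [← hcd, haA, mul_assoc, cvInv_mul_cvOf, mul_one]
    rw [hF'a, hgA, hgi, map_add, map_sub, map_one]
    have hκ : IsJ J (pushR η (pushL P1 α)) := hk.pushR η
    exact ring_AL1' (cvOf F) (cvInv F) α (pushR η (pushL P1 α)) (cvInv_mul_cvOf F)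
      (eq_sub_of_add_eq hint.symm) (IsJ.mul_eq_zero sq1 hκ (hκ.mul_left _))

end SZ1

end Groth.Agent.Lib.Helper6.HInt
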