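import Mathlib
import Groth.Prelude.Def_SGA3b
import Groth.Agent.Lib.Helper6.HInt.HI3
import Groth.Agent.Lib.Helper6.FlatDef.FD1
import Groth.Agent.Lib.Helper6.FlatDef.FD5
import Groth.Agent.Lib.Helper6.Lift.DiagMain

/-!
# The cosimplicial system of a bialgebra with an invariant integral, and its reduction modulo an
ideal (helper6)
-/

set_option autoImplicit false
set_option linter.unusedSectionVars false
set_option linter.unusedVariables false
set_option linter.unusedSimpArgs false
set_option linter.style.haveILetI false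
set_option linter.overlappingInstances false
set_option maxHeartbeats 800000
set_option synthInstance.maxHeartbeats 400000

universe u
open TensorProduct SGA3b Coalgebra WithConv

namespace Groth.Agent.Lib.Helper6.HInt

section IntR

variable {R : Type u} [CommRing R] {A : Type u} [CommRing A] [Algebra R A] (lam : A →ₗ[R] R)

/-- Integration over the last variable. -/
noncomputable def intR (T : Type u) [CommRing T] [Algebra R T] : T ⊗[R] A →ₗ[R] T :=
  (TensorProduct.rid R T).toLinearMap ∘ₗ lam.lTensor T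

variable {T T' : Type u} [CommRing T] [Algebra R T] [CommRing T'] [Algebra R T']

@[simp] lemma intR_tmul (t : T) (a : A) : intR lam T (t ⊗ₜ[R] a) = lam a • t := by
  simp [intR]

lemma intR_mul (t : T) (w : T ⊗[R] A) :
    intR lam T ((Algebra.TensorProduct.includeLeft : T →ₐ[R] T ⊗[R] A) t * w) =
      t * intR lam T w := by
  induction w using TensorProduct.induction_on with
  | zero => simp
  | tmul s a =>
    rw [Algebra.TensorProduct.includeLeft_apply, Algebra.TensorProduct.tmul_mul_tmul, one_mul,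
      intR_tmul, intR_tmul, mul_smul_comm]
  | add y z hy hz => rw [mul_add, map_add, hy, hz, map_add, mul_add]

lemma intR_one (h1 : lam 1 = 1) : intR lam T 1 = 1 := by
  rw [Algebra.TensorProduct.one_def, intR_tmul, h1, one_smul]

lemma intR_nat (φ : T →ₐ[R] T') (w : T ⊗[R] A) :
    intR lam T' (Algebra.TensorProduct.map φ (AlgHom.id R A) w) = φ (intR lam T w) := by
  induction w using TensorProduct.induction_on with
  | zero => simp
  | tmul t a =>
    rw [Algebra.TensorProduct.map_tmul, intR_tmul, intR_tmul, map_smul]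
    rfl
  | add y z hy hz => rw [map_add, map_add, hy, hz, map_add, map_add]

end IntR

section Sys

variable (R : Type u) [CommRing R] (A : Type u) [CommRing A] [Bialgebra R A]

/-- multiplication of points -/
noncomputable def sM : A →ₐ[R] A ⊗[R] A := Bialgebra.comulAlgHom R A
/-- first projection -/
noncomputable def sP1 : A →ₐ[R] A ⊗[R] A := Algebra.TensorProduct.includeLeft
/-- second projection -/
noncomputable def sP2 : A →ₐ[R] A ⊗[R] A := Algebra.TensorProduct.includeRight
/-- `(h,h',h'') ↦ (h,h')` -/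
noncomputable def sD3 : A ⊗[R] A →ₐ[R] (A ⊗[R] A) ⊗[R] A := Algebra.TensorProduct.includeLeft
/-- `(h,h',h'') ↦ (hh',h'')` -/
noncomputable def sD1 : A ⊗[R] A →ₐ[R] (A ⊗[R] A) ⊗[R] A :=
  Algebra.TensorProduct.map (sM R A) (AlgHom.id R A)
/-- `(h,h',h'') ↦ (h',h'')` -/
noncomputable def sD0 : A ⊗[R] A →ₐ[R] (A ⊗[R] A) ⊗[R] A :=
  Algebra.TensorProduct.map (sP2 R A) (AlgHom.id R A)
/-- `(h,h',h'') ↦ (h,h'h'')` -/
noncomputable def sD2 : A ⊗[R] A →ₐ[R] (A ⊗[R] A) ⊗[R] A :=
  ((Algebra.TensorProduct.assoc R R R A A A).symm : A ⊗[R] (A ⊗[R] A) →ₐ[R] (A ⊗[R] A) ⊗[R] A).comp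
    (Algebra.TensorProduct.map (AlgHom.id R A) (sM R A))

lemma sM_apply (a : A) : sM R A a = comul (R := R) a := rfl
lemma sP1_apply (a : A) : sP1 R A a = a ⊗ₜ[R] 1 := rfl
lemma sP2_apply (a : A) : sP2 R A a = 1 ⊗ₜ[R] a := rfl
lemma sD3_apply (t : A ⊗[R] A) : sD3 R A t = t ⊗ₜ[R] 1 := rfl
lemma sD1_tmul (x y : A) : sD1 R A (x ⊗ₜ[R] y) = comul (R := R) x ⊗ₜ[R] y := rfl
lemma sD0_tmul (x y : A) : sD0 R A (x ⊗ₜ[R] y) = ((1 : A) ⊗ₜ[R] x) ⊗ₜ[R] y := rfl
lemma sD2_tmul (x y : A) : sD2 R A (x ⊗ₜ[R] y) =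
    (Algebra.TensorProduct.assoc R R R A A A).symm (x ⊗ₜ[R] comul (R := R) y) := rfl

lemma assoc_symm_eq (w : A ⊗[R] (A ⊗[R] A)) :
    (Algebra.TensorProduct.assoc R R R A A A).symm w = (TensorProduct.assoc R A A A).symm w := by
  induction w using TensorProduct.induction_on with
  | zero => simp
  | tmul x z =>
    induction z using TensorProduct.induction_on with
    | zero => simp
    | tmul y1 y2 => rfl
    | add y z hy hz => rw [TensorProduct.tmul_add, map_add, map_add, hy, hz]
  | add y z hy hz => rw [map_add, map_add, hy, hz]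

lemma sys_s1 : (sD1 R A).comp (sM R A) = (sD2 R A).comp (sM R A) := by
  apply AlgHom.ext
  intro a
  show sD1 R A (comul (R := R) a) = sD2 R A (comul (R := R) a)
  have h1 : ∀ z : A ⊗[R] A, sD1 R A z = (comul (R := R) (A := A)).rTensor A z := by
    intro z
    induction z using TensorProduct.induction_on with
    | zero => simp
    | tmul x y => rfl
    | add y z hy hz => rw [map_add, map_add, hy, hz]
  have h2 : ∀ z : A ⊗[R] A, sD2 R A z =
      (TensorProduct.assoc R A A A).symm ((comul (R := R) (A := A)).lTensor A z) := by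
    intro z
    induction z using TensorProduct.induction_on with
    | zero => simp
    | tmul x y => rw [sD2_tmul, assoc_symm_eq, LinearMap.lTensor_tmul]
    | add y z hy hz => rw [map_add, map_add, map_add, hy, hz]
  rw [h1, h2, Coalgebra.coassoc_symm_apply]

lemma sys_s2 : (sD1 R A).comp (sP2 R A) = (sD0 R A).comp (sP2 R A) := by
  apply AlgHom.ext
  intro a
  show sD1 R A ((1 : A) ⊗ₜ[R] a) = sD0 R A ((1 : A) ⊗ₜ[R] a)
  rw [sD1_tmul, sD0_tmul, Bialgebra.comul_one, Algebra.TensorProduct.one_def]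

lemma sys_s3 : (sD1 R A).comp (sP1 R A) = (sD3 R A).comp (sM R A) := by
  apply AlgHom.ext
  intro a
  rfl

lemma sys_s4 : (sD3 R A).comp (sP2 R A) = (sD0 R A).comp (sP1 R A) := by
  apply AlgHom.ext
  intro a
  rfl

lemma sys_s5 : (sD3 R A).comp (sP1 R A) = (sD2 R A).comp (sP1 R A) := by
  apply AlgHom.ext
  intro a
  show (a ⊗ₜ[R] (1 : A)) ⊗ₜ[R] (1 : A) = sD2 R A (a ⊗ₜ[R] (1 : A))
  rw [sD2_tmul, Bialgebra.comul_one, Algebra.TensorProduct.one_def,
    Algebra.TensorProduct.assoc_symm_tmul]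

lemma sys_s6 : (sD2 R A).comp (sP2 R A) = (sD0 R A).comp (sM R A) := by
  apply AlgHom.ext
  intro a
  show sD2 R A ((1 : A) ⊗ₜ[R] a) = sD0 R A (comul (R := R) a)
  rw [sD2_tmul]
  have h : ∀ z : A ⊗[R] A, (Algebra.TensorProduct.assoc R R R A A A).symm ((1 : A) ⊗ₜ[R] z) =
      sD0 R A z := by
    intro z
    induction z using TensorProduct.induction_on with
    | zero => simp
    | tmul x y => rfl
    | add y z hy hz => rw [TensorProduct.tmul_add, map_add, map_add, hy, hz]
  exact h _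

variable {R A}
variable (lam : A →ₗ[R] R)

lemma sys_i1 (t : A ⊗[R] A) (w : (A ⊗[R] A) ⊗[R] A) :
    intR lam (A ⊗[R] A) (sD3 R A t * w) = t * intR lam (A ⊗[R] A) w :=
  intR_mul lam t w

lemma sys_i2 (w : A ⊗[R] A) :
    intR lam (A ⊗[R] A) (sD1 R A w) = sM R A (intR lam A w) :=
  intR_nat lam (sM R A) w

lemma sys_i4 (w : A ⊗[R] A) :
    intR lam (A ⊗[R] A) (sD0 R A w) = sP2 R A (intR lam A w) :=
  intR_nat lam (sP2 R A) w

lemma intR_assoc (x : A) (z : A ⊗[R] A) :
    intR lam (A ⊗[R] A) ((Algebra.TensorProduct.assoc R R R A A A).symm (x ⊗ₜ[R] z)) =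
      x ⊗ₜ[R] (TensorProduct.rid R A (lam.lTensor A z)) := by
  induction z using TensorProduct.induction_on with
  | zero => simp
  | tmul y1 y2 =>
    rw [Algebra.TensorProduct.assoc_symm_tmul, intR_tmul, LinearMap.lTensor_tmul,
      TensorProduct.rid_tmul, TensorProduct.tmul_smul]
  | add y z hy hz =>
    rw [TensorProduct.tmul_add, map_add, map_add, hy, hz, map_add, map_add, TensorProduct.tmul_add]

lemma sys_i3
    (hL : ∀ a : A, TensorProduct.rid R A (lam.lTensor A (comul (R := R) a)) = lam a • (1 : A))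
    (w : A ⊗[R] A) :
    intR lam (A ⊗[R] A) (sD2 R A w) = sP1 R A (intR lam A w) := by
  induction w using TensorProduct.induction_on with
  | zero => simp
  | tmul x y =>
    rw [sD2_tmul, intR_assoc, hL, intR_tmul, sP1_apply, TensorProduct.tmul_smul,
      TensorProduct.smul_tmul']
  | add y z hy hz => rw [map_add, map_add, hy, hz, map_add, map_add]

lemma sys_j2
    (hL : ∀ a : A, TensorProduct.rid R A (lam.lTensor A (comul (R := R) a)) = lam a • (1 : A))
    (w : A) : intR lam A (sM R A w) = Algebra.ofId R A (lam w) := by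
  show TensorProduct.rid R A (lam.lTensor A (comul (R := R) w)) = algebraMap R A (lam w)
  rw [hL, Algebra.algebraMap_eq_smul_one]

lemma sys_j3 (w : A) : intR lam A (sP2 R A w) = Algebra.ofId R A (lam w) := by
  rw [sP2_apply, intR_tmul]
  show lam w • (1 : A) = algebraMap R A (lam w)
  rw [Algebra.algebraMap_eq_smul_one]

end Sys

section Bar

variable {R : Type u} [CommRing R] (K : Ideal R)
variable {T T' T'' : Type u} [CommRing T] [Algebra R T] [CommRing T'] [Algebra R T']
  [CommRing T''] [Algebra R T'']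

/-- `(R/K) ⊗ T`. -/
abbrev Bq (T : Type u) [CommRing T] [Algebra R T] := (R ⧸ K) ⊗[R] T

/-- reduction of an algebra map -/
noncomputable def barA (φ : T →ₐ[R] T') : Bq K T →ₐ[R] Bq K T' :=
  Algebra.TensorProduct.map (AlgHom.id R (R ⧸ K)) φ

/-- reduction of a linear map -/
noncomputable def barL (P : T →ₗ[R] T') : Bq K T →ₗ[R] Bq K T' := P.lTensor (R ⧸ K)

/-- the reduction map -/
noncomputable def iq (T : Type u) [CommRing T] [Algebra R T] : T →ₐ[R] Bq K T :=
  Algebra.TensorProduct.includeRight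

@[simp] lemma barA_tmul (φ : T →ₐ[R] T') (r : R ⧸ K) (t : T) :
    barA K φ (r ⊗ₜ[R] t) = r ⊗ₜ[R] φ t := rfl
@[simp] lemma barL_tmul (P : T →ₗ[R] T') (r : R ⧸ K) (t : T) :
    barL K P (r ⊗ₜ[R] t) = r ⊗ₜ[R] P t := rfl
lemma iq_apply (t : T) : iq K T t = (1 : R ⧸ K) ⊗ₜ[R] t := rfl

lemma barA_comp (ψ : T' →ₐ[R] T'') (φ : T →ₐ[R] T') :
    (barA K ψ).comp (barA K φ) = barA K (ψ.comp φ) :=
  (Algebra.TensorProduct.map_id_comp ψ φ).symm

lemma barA_iq (φ : T →ₐ[R] T') : (barA K φ).comp (iq K T) = (iq K T').comp φ := by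
  apply AlgHom.ext
  intro t
  rfl

lemma barL_iq (P : T →ₗ[R] T') (t : T) : barL K P (iq K T t) = iq K T' (P t) := rfl

lemma bar_mul (d : T →ₐ[R] T') (P : T' →ₗ[R] T) (h : ∀ t w, P (d t * w) = t * P w)
    (t : Bq K T) (w : Bq K T') : barL K P (barA K d t * w) = t * barL K P w := by
  induction t using TensorProduct.induction_on with
  | zero => simp
  | tmul r t =>
    induction w using TensorProduct.induction_on with
    | zero => simp
    | tmul s w =>
      rw [barA_tmul, Algebra.TensorProduct.tmul_mul_tmul, barL_tmul, barL_tmul, h,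
        Algebra.TensorProduct.tmul_mul_tmul]
    | add y z hy hz => rw [mul_add, map_add, hy, hz, map_add, mul_add]
  | add y z hy hz => rw [map_add, add_mul, map_add, hy, hz, add_mul]

lemma bar_one (P : T →ₗ[R] T') (h : P 1 = 1) : barL K P 1 = 1 := by
  show barL K P ((1 : R ⧸ K) ⊗ₜ[R] (1 : T)) = (1 : R ⧸ K) ⊗ₜ[R] (1 : T')
  rw [barL_tmul, h]

lemma bar_nat {U U' : Type u} [CommRing U] [Algebra R U] [CommRing U'] [Algebra R U']
    (d : T →ₐ[R] T') (P' : T' →ₗ[R] U') (P : T →ₗ[R] U) (e : U →ₐ[R] U')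
    (h : ∀ w, P' (d w) = e (P w)) (w : Bq K T) :
    barL K P' (barA K d w) = barA K e (barL K P w) := by
  induction w using TensorProduct.induction_on with
  | zero => simp
  | tmul r w => rw [barA_tmul, barL_tmul, barL_tmul, barA_tmul, h]
  | add y z hy hz => rw [map_add, map_add, hy, hz, map_add, map_add]

lemma algebraMap_bar_eq_zero (T : Type u) [CommRing T] [Algebra R T] {k : R} (hk : k ∈ K) :
    algebraMap R (Bq K T) k = 0 := by
  rw [Algebra.TensorProduct.algebraMap_apply, Ideal.Quotient.algebraMap_eq,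
    Ideal.Quotient.eq_zero_iff_mem.mpr hk, TensorProduct.zero_tmul]

lemma map_bar_eq_bot (T : Type u) [CommRing T] [Algebra R T] {J : Ideal R} (hJK : J ≤ K) :
    J.map (algebraMap R (Bq K T)) = ⊥ := by
  rw [eq_bot_iff, Ideal.map_le_iff_le_comap]
  intro r hr
  rw [Ideal.mem_comap, Ideal.mem_bot]
  exact algebraMap_bar_eq_zero K T (hJK hr)

lemma sqZ_bar (T : Type u) [CommRing T] [Algebra R T] {J : Ideal R} (hJK : J * J ≤ K) :
    SqZ J (Bq K T) := by
  intro x hx y hy
  have h1 : x * y ∈ (J.map (algebraMap R (Bq K T))) * (J.map (algebraMap R (Bq K T))) :=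
    Ideal.mul_mem_mul hx hy
  rw [← Ideal.map_mul, map_bar_eq_bot K T hJK, Ideal.mem_bot] at h1
  exact h1

lemma iq_surjective (T : Type u) [CommRing T] [Algebra R T] : Function.Surjective (iq K T) :=
  fun y => Lift.exists_one_tmul K T y

lemma mem_of_iq_eq_zero {t : T} (h : iq K T t = 0) : t ∈ K.map (algebraMap R T) := by
  have := FlatDef.mem_smul_top_of_one_tmul K t h
  rw [Ideal.smul_top_eq_map] at this
  exact this

lemma iq_eq_zero_of_mem {t : T} (h : t ∈ K.map (algebraMap R T)) : iq K T t = 0 := by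
  have h' : t ∈ K • (⊤ : Submodule R T) := by
    rw [Ideal.smul_top_eq_map]
    exact h
  exact FlatDef.one_tmul_of_mem K h'

lemma ker_iq_nilpotent (T : Type u) [CommRing T] [Algebra R T] (hK : IsNilpotent K) :
    IsNilpotent (RingHom.ker (iq K T : T →+* Bq K T)) := by
  obtain ⟨n, hn⟩ := FlatDef.isNilpotent_map K hK T
  refine ⟨n, ?_⟩
  rw [Ideal.zero_eq_bot, eq_bot_iff]
  have hle : RingHom.ker (iq K T : T →+* Bq K T) ≤ K.map (algebraMap R T) := by
    intro t ht
    exact mem_of_iq_eq_zero K ht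
  calc RingHom.ker (iq K T : T →+* Bq K T) ^ n ≤ (K.map (algebraMap R T)) ^ n :=
        Ideal.pow_right_mono hle n
    _ = ⊥ := hn

lemma mem_of_iq_mem {J : Ideal R} (hKJ : K ≤ J) {t : T}
    (h : iq K T t ∈ J.map (algebraMap R (Bq K T))) : t ∈ J.map (algebraMap R T) := by
  apply mem_of_iq_eq_zero J
  have h1 := alg_mem_map J
    (Algebra.TensorProduct.map (Ideal.Quotient.factorₐ R hKJ) (AlgHom.id R T)) h
  rw [map_bar_eq_bot J T le_rfl, Ideal.mem_bot] at h1
  rw [← h1]
  show (1 : R ⧸ J) ⊗ₜ[R] t = (Ideal.Quotient.factorₐ R hKJ) (1 : R ⧸ K) ⊗ₜ[R] t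
  rw [map_one]

variable {C : Type u} [CommRing C] [HopfAlgebra R C]

lemma isJ_of_pushR_iq_eq_zero {u : Cv R C T} (h : pushR (iq K T) u = 0) : IsJ K u := by
  intro c
  apply mem_of_iq_eq_zero K
  have : (pushR (iq K T) u) c = (0 : Cv R C (Bq K T)) c := by rw [h]
  exact this

lemma pushR_iq_eq_zero {u : Cv R C T} (h : IsJ K u) : pushR (iq K T) u = 0 := by
  apply WithConv.ext
  ext c
  exact iq_eq_zero_of_mem K (h c)

lemma isJ_of_pushR_iq {J : Ideal R} (hKJ : K ≤ J) {u : Cv R C T}
    (h : IsJ J (pushR (iq K T) u)) : IsJ J u :=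
  fun c => mem_of_iq_mem K hKJ (h c)

lemma exists_lift_iq [Algebra.FormallySmooth R C] (hK : IsNilpotent K)
    (g : C →ₐ[R] Bq K T) : ∃ g' : C →ₐ[R] T, (iq K T).comp g' = g :=
  ⟨Algebra.FormallySmooth.liftOfSurjective g (iq K T) (iq_surjective K T) (ker_iq_nilpotent K T hK),
    Algebra.FormallySmooth.comp_liftOfSurjective _ _ _ _⟩

end Bar

end Groth.Agent.Lib.Helper6.HInt
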