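import Mathlib
import Groth.Prelude.Def_SGA3b
import Groth.Agent.Lib.Helper6.HInt.HI1
import Groth.Agent.Lib.Helper6.HInt.HI4

/-!
# Lifting homomorphisms from a group with an invariant integral to a smooth affine group along a
nilpotent ideal; conjugacy of the liftings (helper6)
-/

set_option autoImplicit false
set_option linter.unusedSectionVars false
set_option linter.unusedVariables false
set_option linter.unusedSimpArgs false
set_option linter.style.haveILetI false
set_option linter.overlappingInstances false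
set_option maxHeartbeats 800000
set_option synthInstance.maxHeartbeats 400000

universe u
open TensorProduct SGA3b Coalgebra WithConv

namespace Groth.Agent.Lib.Helper6.HInt

section Lifting

variable {R : Type u} [CommRing R] {C : Type u} [CommRing C] [HopfAlgebra R C]
variable {A : Type u} [CommRing A] [Bialgebra R A]

/-- The defect of multiplicativity of an algebra map `C → A` (a map of schemes `H → G`). -/
noncomputable def defect (f : C →ₐ[R] A) : Cv R C (A ⊗[R] A) :=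
  cvOf ((sM R A).comp f) - cvOf ((sP1 R A).comp f) * cvOf ((sP2 R A).comp f)

lemma isComult_iff_defect (f : C →ₐ[R] A) : IsComult f ↔ defect f = 0 := by
  rw [defect, sub_eq_zero]
  rfl

lemma bar_comp_iq (K : Ideal R) {T T' : Type u} [CommRing T] [Algebra R T] [CommRing T']
    [Algebra R T'] (φ : T →ₐ[R] T') (f : C →ₐ[R] T) :
    cvOf ((barA K φ).comp ((iq K T).comp f)) = pushR (iq K T') (cvOf (φ.comp f)) := by
  rw [← AlgHom.comp_assoc, barA_iq, AlgHom.comp_assoc]
  rfl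

lemma defect_bar (K : Ideal R) (f : C →ₐ[R] A) :
    cvOf ((barA K (sM R A)).comp ((iq K A).comp f)) -
      cvOf ((barA K (sP1 R A)).comp ((iq K A).comp f)) *
        cvOf ((barA K (sP2 R A)).comp ((iq K A).comp f)) =
      pushR (iq K (A ⊗[R] A)) (defect f) := by
  rw [bar_comp_iq, bar_comp_iq, bar_comp_iq, defect, map_sub, map_mul]

variable (lam : A →ₗ[R] R) (h1 : lam 1 = 1)
  (hL : ∀ a : A, TensorProduct.rid R A (lam.lTensor A (comul (R := R) a)) = lam a • (1 : A))

include h1 hL in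
/-- One step of the lifting: from multiplicative modulo `J` to multiplicative modulo `K ⊇ J²`. -/
theorem step2 [Algebra.FormallySmooth R C] (J K : Ideal R) (hJK : J * J ≤ K) (hKJ : K ≤ J)
    (hK : IsNilpotent K) (f : C →ₐ[R] A) (hf : IsJ J (defect f)) :
    ∃ g : C →ₐ[R] A, IsJ J (cvOf g - cvOf f) ∧ IsJ K (defect g) := by
  have hf' : IsJ J (cvOf ((barA K (sM R A)).comp ((iq K A).comp f)) -
      cvOf ((barA K (sP1 R A)).comp ((iq K A).comp f)) *
        cvOf ((barA K (sP2 R A)).comp ((iq K A).comp f))) := by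
    rw [defect_bar]
    exact hf.pushR _
  obtain ⟨F', hF'J, hF'c⟩ := sz2 (R := R) (C := C) (T1 := Bq K A) (T2 := Bq K (A ⊗[R] A))
    (T3 := Bq K ((A ⊗[R] A) ⊗[R] A)) J (sqZ_bar K A hJK) (sqZ_bar K _ hJK) (sqZ_bar K _ hJK)
    (barA K (sM R A)) (barA K (sP1 R A)) (barA K (sP2 R A))
    (barA K (sD0 R A)) (barA K (sD1 R A)) (barA K (sD2 R A)) (barA K (sD3 R A))
    (barL K (intR lam (A ⊗[R] A))) (barL K (intR lam A))
    (by rw [barA_comp, barA_comp, sys_s1]) (by rw [barA_comp, barA_comp, sys_s2])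
    (by rw [barA_comp, barA_comp, sys_s3]) (by rw [barA_comp, barA_comp, sys_s4])
    (by rw [barA_comp, barA_comp, sys_s5]) (by rw [barA_comp, barA_comp, sys_s6])
    (bar_mul K (sD3 R A) (intR lam (A ⊗[R] A)) (sys_i1 lam))
    (bar_one K _ (intR_one lam h1))
    (bar_nat K (sD1 R A) (intR lam (A ⊗[R] A)) (intR lam A) (sM R A) (sys_i2 lam))
    (bar_nat K (sD2 R A) (intR lam (A ⊗[R] A)) (intR lam A) (sP1 R A) (sys_i3 lam hL))
    (bar_nat K (sD0 R A) (intR lam (A ⊗[R] A)) (intR lam A) (sP2 R A) (sys_i4 lam))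
    (bar_one K _ (intR_one lam h1))
    ((iq K A).comp f) hf'
  obtain ⟨g, hg⟩ := exists_lift_iq K hK F' (T := A)
  refine ⟨g, ?_, ?_⟩
  · apply isJ_of_pushR_iq K hKJ
    rw [map_sub, pushR_cvOf, pushR_cvOf, hg]
    exact hF'J
  · apply isJ_of_pushR_iq_eq_zero K
    rw [← defect_bar K g, hg, hF'c, sub_self]

include h1 hL in
/-- **Lifting to a homomorphism** (`H²`-vanishing). -/
theorem main2 [Algebra.FormallySmooth R C] (I : Ideal R) (hI : IsNilpotent I)
    (f : C →ₐ[R] A) (hf : IsJ I (defect f)) :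
    ∃ φ : C →ₐc[R] A, ∀ x, φ x - f x ∈ I.map (algebraMap R A) := by
  have key : ∀ n : ℕ, ∃ g : C →ₐ[R] A, IsJ I (cvOf g - cvOf f) ∧ IsJ (I ^ (n + 1)) (defect g) := by
    intro n
    induction n with
    | zero =>
      refine ⟨f, ?_, ?_⟩
      · rw [sub_self]
        exact IsJ.zero
      · rw [zero_add, pow_one]
        exact hf
    | succ n ih =>
      obtain ⟨g, hg1, hg2⟩ := ih
      have hJK : I ^ (n + 1) * I ^ (n + 1) ≤ I ^ (n + 1 + 1) := by
        rw [← pow_add]
        exact Ideal.pow_le_pow_right (by omega)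
      have hKJ : I ^ (n + 1 + 1) ≤ I ^ (n + 1) := Ideal.pow_le_pow_right (by omega)
      have hK : IsNilpotent (I ^ (n + 1 + 1)) := hI.pow_succ (n + 1)
      obtain ⟨g', hg'1, hg'2⟩ := step2 lam h1 hL (I ^ (n + 1)) (I ^ (n + 1 + 1)) hJK hKJ hK g hg2
      refine ⟨g', ?_, hg'2⟩
      have : cvOf g' - cvOf f = (cvOf g' - cvOf g) + (cvOf g - cvOf f) := by abel
      rw [this]
      exact (hg'1.mono (Ideal.pow_le_self (by omega))).add hg1
  obtain ⟨N, hN⟩ := hI
  obtain ⟨g, hg1, hg2⟩ := key N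
  have h0 : I ^ (N + 1) = ⊥ := by
    rw [pow_succ, hN, Ideal.zero_eq_bot, Ideal.bot_mul]
  rw [h0, isJ_bot_iff] at hg2
  obtain ⟨φ, hφ⟩ := exists_bialgHom_of_isComult g ((isComult_iff_defect g).mpr hg2)
  exact ⟨φ, fun x => by rw [hφ]; exact hg1 x⟩

include h1 hL in
/-- One step of the conjugacy. -/
theorem step1 [Algebra.FormallySmooth R C] (J K : Ideal R) (hJK : J * J ≤ K) (hKJ : K ≤ J)
    (hK : IsNilpotent K) (F F' : C →ₐ[R] A) (hF : IsComult F) (hF' : IsComult F')
    (hFF : IsJ J (cvOf F' - cvOf F)) :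
    ∃ g : C →ₐ[R] R, IsJ J (cvOf g - 1) ∧
      IsJ K (cvOf F' - pushR (Algebra.ofId R A) (cvOf g) * cvOf F *
        pushR (Algebra.ofId R A) (cvInv g)) := by
  have hbF : ∀ G : C →ₐ[R] A, IsComult G →
      cvOf ((barA K (sM R A)).comp ((iq K A).comp G)) =
        cvOf ((barA K (sP1 R A)).comp ((iq K A).comp G)) *
          cvOf ((barA K (sP2 R A)).comp ((iq K A).comp G)) := by
    intro G hG
    rw [bar_comp_iq, bar_comp_iq, bar_comp_iq, ← map_mul]
    congr 1
  have hFF' : IsJ J (cvOf ((iq K A).comp F') - cvOf ((iq K A).comp F)) := by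
    rw [← pushR_cvOf, ← pushR_cvOf, ← map_sub]
    exact hFF.pushR _
  obtain ⟨gb, hgbJ, hgb⟩ := sz1 (R := R) (C := C) (T0 := Bq K R) (T1 := Bq K A)
    (T2 := Bq K (A ⊗[R] A)) J (sqZ_bar K R hJK) (sqZ_bar K A hJK) (sqZ_bar K _ hJK)
    (barA K (Algebra.ofId R A)) (barA K (sM R A)) (barA K (sP1 R A)) (barA K (sP2 R A))
    (barL K (intR lam A)) (barL K lam)
    (bar_mul K (sP1 R A) (intR lam A) (intR_mul lam))
    (bar_one K _ (intR_one lam h1))
    (bar_nat K (sM R A) (intR lam A) lam (Algebra.ofId R A) (sys_j2 lam hL))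
    (bar_nat K (sP2 R A) (intR lam A) lam (Algebra.ofId R A) (sys_j3 lam))
    (bar_one K lam h1)
    ((iq K A).comp F) ((iq K A).comp F') (hbF F hF) (hbF F' hF') hFF'
  obtain ⟨g, hg⟩ := exists_lift_iq K hK gb (T := R)
  refine ⟨g, ?_, ?_⟩
  · apply isJ_of_pushR_iq K hKJ
    rw [map_sub, map_one, pushR_cvOf, hg]
    exact hgbJ
  · apply isJ_of_pushR_iq_eq_zero K
    have e : (iq K A).comp (Algebra.ofId R A) = (barA K (Algebra.ofId R A)).comp (iq K R) :=
      (barA_iq K _).symm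
    have e1 : pushR (iq K A) (pushR (Algebra.ofId R A) (cvOf g)) =
        pushR (barA K (Algebra.ofId R A)) (cvOf gb) := by
      rw [pushR_comp, e, ← pushR_comp, pushR_cvOf, hg]
    have e2 : pushR (iq K A) (pushR (Algebra.ofId R A) (cvInv g)) =
        pushR (barA K (Algebra.ofId R A)) (cvInv gb) := by
      rw [pushR_comp, e, ← pushR_comp, pushR_cvInv, hg]
    rw [map_sub, map_mul, map_mul, e1, e2, pushR_cvOf, pushR_cvOf, sub_eq_zero]
    exact hgb

end Lifting

section Conj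

variable {R : Type u} [CommRing R] {C : Type u} [CommRing C] [HopfAlgebra R C]
variable {A : Type u} [CommRing A] [Bialgebra R A]

/-- Conjugate of a map by a point of `G(R)`. -/
noncomputable def conjA (g : C →ₐ[R] R) (F : C →ₐ[R] A) : C →ₐ[R] A :=
  mulA (mulA ((Algebra.ofId R A).comp g) F) (invA ((Algebra.ofId R A).comp g))

lemma cvOf_conjA (g : C →ₐ[R] R) (F : C →ₐ[R] A) :
    cvOf (conjA g F) =
      pushR (Algebra.ofId R A) (cvOf g) * cvOf F * pushR (Algebra.ofId R A) (cvInv g) := by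
  rw [conjA, cvOf_mulA, cvOf_mulA, cvOf_invA]
  rfl

lemma comp_ofId {T T' : Type u} [CommRing T] [Algebra R T] [CommRing T'] [Algebra R T']
    (φ : T →ₐ[R] T') : φ.comp (Algebra.ofId R T) = Algebra.ofId R T' := by
  apply AlgHom.ext
  intro r
  exact φ.commutes r

lemma pushR_conjA {A' : Type u} [CommRing A'] [Algebra R A'] (φ : A →ₐ[R] A')
    (g : C →ₐ[R] R) (F : C →ₐ[R] A) :
    pushR φ (cvOf (conjA g F)) =
      pushR (Algebra.ofId R A') (cvOf g) * cvOf (φ.comp F) * pushR (Algebra.ofId R A') (cvInv g) := by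
  rw [cvOf_conjA, map_mul, map_mul, pushR_comp, pushR_comp, comp_ofId]
  rfl

lemma isComult_conjA (g : C →ₐ[R] R) (F : C →ₐ[R] A) (hF : IsComult F) :
    IsComult (conjA g F) := by
  have hF' : cvOf ((sM R A).comp F) = cvOf ((sP1 R A).comp F) * cvOf ((sP2 R A).comp F) := hF
  show pushR (sM R A) (cvOf (conjA g F)) =
    pushR (sP1 R A) (cvOf (conjA g F)) * pushR (sP2 R A) (cvOf (conjA g F))
  rw [pushR_conjA, pushR_conjA, pushR_conjA, hF']
  have hGiG : pushR (Algebra.ofId R (A ⊗[R] A)) (cvInv g) *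
      pushR (Algebra.ofId R (A ⊗[R] A)) (cvOf g) = 1 := by
    rw [← map_mul, cvInv_mul_cvOf, map_one]
  obtain ⟨G, hG⟩ : ∃ G, G = pushR (Algebra.ofId R (A ⊗[R] A)) (cvOf g) := ⟨_, rfl⟩
  obtain ⟨Gi, hGi⟩ : ∃ Gi, Gi = pushR (Algebra.ofId R (A ⊗[R] A)) (cvInv g) := ⟨_, rfl⟩
  rw [← hG, ← hGi] at hGiG ⊢
  have e : ∀ X1 X2 : Cv R C (A ⊗[R] A),
      (G * X1 * Gi) * (G * X2 * Gi) = G * X1 * (Gi * G) * X2 * Gi := by
    intro X1 X2
    noncomm_ring
  rw [e, hGiG]
  noncomm_ring

lemma isComult_comp {A' : Type u} [CommRing A'] [Bialgebra R A'] (α : A →ₐc[R] A')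
    (F : C →ₐ[R] A) (hF : IsComult F) : IsComult ((α : A →ₐ[R] A').comp F) := by
  rw [isComult_iff] at hF ⊢
  intro x
  have h1 : comul (R := R) (α (F x)) =
      TensorProduct.map (α : A →ₗ[R] A') (α : A →ₗ[R] A') (comul (R := R) (F x)) :=
    (CoalgHomClass.map_comp_comul_apply α (F x)).symm
  show comul (R := R) (α (F x)) = _
  rw [h1, hF x]
  have key : ∀ z : C ⊗[R] C, TensorProduct.map (α : A →ₗ[R] A') (α : A →ₗ[R] A')
      (TensorProduct.map F.toLinearMap F.toLinearMap z) =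
      TensorProduct.map ((α : A →ₐ[R] A').comp F).toLinearMap
        ((α : A →ₐ[R] A').comp F).toLinearMap z := by
    intro z
    induction z using TensorProduct.induction_on with
    | zero => simp only [map_zero]
    | tmul a b => rfl
    | add y z hy hz => simp only [map_add, hy, hz]
  exact key _

variable (lam : A →ₗ[R] R) (h1 : lam 1 = 1)
  (hL : ∀ a : A, TensorProduct.rid R A (lam.lTensor A (comul (R := R) a)) = lam a • (1 : A))

include h1 hL in
/-- **Relative lifting** (`H¹`-vanishing): if `α ∘ γ' ≡ β` modulo a nilpotent ideal `I`, then `γ'`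
can be conjugated, by a point of `G(R)` trivial modulo `I`, to `γ` with `α ∘ γ = β`. -/
theorem main1 [Algebra.FormallySmooth R C] {A₂ : Type u} [CommRing A₂] [Bialgebra R A₂]
    (I : Ideal R) (hI : IsNilpotent I)
    (α : A₂ →ₐc[R] A) (β : C →ₐc[R] A) (γ' : C →ₐc[R] A₂)
    (hαγ : IsJ I (cvOf (β : C →ₐ[R] A) - cvOf ((α : A₂ →ₐ[R] A).comp (γ' : C →ₐ[R] A₂)))) :
    ∃ γ : C →ₐc[R] A₂, (∀ x, γ x - γ' x ∈ I.map (algebraMap R A₂)) ∧ ∀ x, α (γ x) = β x := by
  have key : ∀ n : ℕ, ∃ γn : C →ₐ[R] A₂, IsComult γn ∧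
      IsJ I (cvOf γn - cvOf (γ' : C →ₐ[R] A₂)) ∧
      IsJ (I ^ (n + 1)) (cvOf (β : C →ₐ[R] A) - cvOf ((α : A₂ →ₐ[R] A).comp γn)) := by
    intro n
    induction n with
    | zero =>
      refine ⟨(γ' : C →ₐ[R] A₂), isComult_of_bialgHom γ', ?_, ?_⟩
      · rw [sub_self]
        exact IsJ.zero
      · rw [zero_add, pow_one]
        exact hαγ
    | succ n ih =>
      obtain ⟨γn, hc, hg1, hg2⟩ := ih
      have hJK : I ^ (n + 1) * I ^ (n + 1) ≤ I ^ (n + 1 + 1) := by
        rw [← pow_add]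
        exact Ideal.pow_le_pow_right (by omega)
      have hKJ : I ^ (n + 1 + 1) ≤ I ^ (n + 1) := Ideal.pow_le_pow_right (by omega)
      have hK : IsNilpotent (I ^ (n + 1 + 1)) := hI.pow_succ (n + 1)
      obtain ⟨g, hgJ, hgK⟩ := step1 lam h1 hL (I ^ (n + 1)) (I ^ (n + 1 + 1)) hJK hKJ hK
        ((α : A₂ →ₐ[R] A).comp γn) (β : C →ₐ[R] A) (isComult_comp α γn hc)
        (isComult_of_bialgHom β) hg2
      refine ⟨conjA g γn, isComult_conjA g γn hc, ?_, ?_⟩
      · have hG : IsJ (I ^ (n + 1)) (pushR (Algebra.ofId R A₂) (cvOf g) - 1) := by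
          have := hgJ.pushR (Algebra.ofId R A₂)
          rw [map_sub, map_one] at this
          exact this
        have hGi : IsJ (I ^ (n + 1)) (pushR (Algebra.ofId R A₂) (cvInv g) - 1) := by
          have := (isJ_cvInv_sub_one hgJ).pushR (Algebra.ofId R A₂)
          rw [map_sub, map_one] at this
          exact this
        have e : cvOf (conjA g γn) - cvOf (γ' : C →ₐ[R] A₂) =
            ((pushR (Algebra.ofId R A₂) (cvOf g) - 1) * cvOf γn *
                pushR (Algebra.ofId R A₂) (cvInv g) +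
              cvOf γn * (pushR (Algebra.ofId R A₂) (cvInv g) - 1)) +
            (cvOf γn - cvOf (γ' : C →ₐ[R] A₂)) := by
          rw [cvOf_conjA]
          noncomm_ring
        rw [e]
        exact ((((hG.mul_right _).mul_right _).add (hGi.mul_left _)).mono
          (Ideal.pow_le_self (by omega))).add hg1
      · have e : cvOf ((α : A₂ →ₐ[R] A).comp (conjA g γn)) =
            pushR (Algebra.ofId R A) (cvOf g) * cvOf ((α : A₂ →ₐ[R] A).comp γn) *
              pushR (Algebra.ofId R A) (cvInv g) := by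
          rw [← pushR_cvOf, pushR_conjA]
        rw [e]
        exact hgK
  obtain ⟨N, hN⟩ := hI
  obtain ⟨γN, hc, hg1, hg2⟩ := key N
  have h0 : I ^ (N + 1) = ⊥ := by
    rw [pow_succ, hN, Ideal.zero_eq_bot, Ideal.bot_mul]
  rw [h0, isJ_bot_iff, sub_eq_zero] at hg2
  obtain ⟨γ, hγ⟩ := exists_bialgHom_of_isComult γN hc
  refine ⟨γ, fun x => by rw [hγ]; exact hg1 x, fun x => ?_⟩
  rw [hγ]
  have : (cvOf (β : C →ₐ[R] A)) x = (cvOf ((α : A₂ →ₐ[R] A).comp γN)) x := by rw [hg2]
  exact this.symm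

end Conj

end Groth.Agent.Lib.Helper6.HInt
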