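import Mathlib
import Groth.Prelude.Def_SGA3b
import Groth.Agent.Lib.Helper6.HInt.HI5
import Groth.Agent.Lib.Helper6.FlatDef.FD2

/-!
# Lifting homomorphisms from a group of multiplicative type to a smooth affine group (helper6)

SGA 3 IX 3.6 and its relative form, in Hopf-algebra form over an affine base.
-/

set_option autoImplicit false
set_option linter.unusedSectionVars false
set_option linter.unusedVariables false
set_option linter.unusedSimpArgs false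
set_option linter.style.haveILetI false
set_option linter.overlappingInstances false
set_option maxHeartbeats 800000
set_option synthInstance.maxHeartbeats 400000

universe u
open TensorProduct SGA3b Coalgebra WithConv
open Groth.Agent.Lib.Helper6.MultType Groth.Agent.Lib.Helper6.FlatDef

namespace Groth.Agent.Lib.Helper6.HInt

section Final

variable {R : Type u} [CommRing R] (I : Ideal R)
variable {C : Type u} [CommRing C] [HopfAlgebra R C]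

/-- An algebra lift of a bialgebra map modulo `I` is multiplicative modulo `I`. -/
lemma isJ_defect_of_lift {A : Type u} [CommRing A] [Bialgebra R A]
    (φ₀ : (R ⧸ I) ⊗[R] C →ₐc[R ⧸ I] (R ⧸ I) ⊗[R] A) (f : C →ₐ[R] A)
    (hf : ∀ x, (1 : R ⧸ I) ⊗ₜ[R] f x = φ₀ ((1 : R ⧸ I) ⊗ₜ[R] x)) : IsJ I (defect f) := by
  apply isJ_of_pushR_iq_eq_zero I
  apply WithConv.ext
  ext x
  show iq I (A ⊗[R] A) ((defect f) x) = 0
  have hdx : (defect f) x = comul (R := R) (f x) -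
      TensorProduct.map f.toLinearMap f.toLinearMap (comul (R := R) x) := by
    show (cvOf ((sM R A).comp f)) x - (cvOf ((sP1 R A).comp f) * cvOf ((sP2 R A).comp f)) x = _
    rw [show (cvOf ((sP1 R A).comp f) * cvOf ((sP2 R A).comp f)) x = _ from
      conv_incl_apply f f x]
    rfl
  rw [hdx, map_sub, sub_eq_zero, iq_apply, iq_apply]
  apply (TensorProduct.AlgebraTensorModule.distribBaseChange R (R ⧸ I) A A).injective
  rw [← T₀_eq_distrib, ← T₀_eq_distrib, ← comul_one_tmul R (R ⧸ I) A (f x), hf]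
  have key : ∀ z : C ⊗[R] C,
      T₀ R (R ⧸ I) A (TensorProduct.map f.toLinearMap f.toLinearMap z) =
      TensorProduct.map (φ₀ : (R ⧸ I) ⊗[R] C →ₗ[R ⧸ I] (R ⧸ I) ⊗[R] A)
        (φ₀ : (R ⧸ I) ⊗[R] C →ₗ[R ⧸ I] (R ⧸ I) ⊗[R] A) (T₀ R (R ⧸ I) C z) := by
    intro z
    induction z using TensorProduct.induction_on with
    | zero => simp only [map_zero]
    | tmul a b =>
      rw [TensorProduct.map_tmul, T₀_tmul, T₀_tmul, TensorProduct.map_tmul]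
      show ((1 : R ⧸ I) ⊗ₜ[R] f a) ⊗ₜ[R ⧸ I] ((1 : R ⧸ I) ⊗ₜ[R] f b) =
        φ₀ ((1 : R ⧸ I) ⊗ₜ[R] a) ⊗ₜ[R ⧸ I] φ₀ ((1 : R ⧸ I) ⊗ₜ[R] b)
      rw [hf, hf]
    | add y z hy hz => simp only [map_add, hy, hz]
  rw [key, ← comul_one_tmul R (R ⧸ I) C x]
  exact (CoalgHomClass.map_comp_comul_apply φ₀ _).symm

/-- **SGA 3 IX 3.6, affine form.** -/
theorem exists_lift_bialgHom [Algebra.FormallySmooth R C] {A : Type u} [CommRing A]
    [HopfAlgebra R A] (hH : IsMultType R A) (hI : IsNilpotent I)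
    (φ₀ : (R ⧸ I) ⊗[R] C →ₐc[R ⧸ I] (R ⧸ I) ⊗[R] A) :
    ∃ φ : C →ₐc[R] A, ∀ c : C, φ₀ ((1 : R ⧸ I) ⊗ₜ[R] c) = (1 : R ⧸ I) ⊗ₜ[R] (φ c) := by
  obtain ⟨lam, h1, hL⟩ := exists_integral hH
  obtain ⟨f, hf⟩ := exists_lift_iq I hI
    (((φ₀ : (R ⧸ I) ⊗[R] C →ₐ[R ⧸ I] (R ⧸ I) ⊗[R] A).restrictScalars R).comp (iq I C)) (T := A)
  have hfx : ∀ x, (1 : R ⧸ I) ⊗ₜ[R] f x = φ₀ ((1 : R ⧸ I) ⊗ₜ[R] x) :=
    fun x => AlgHom.congr_fun hf x
  obtain ⟨φ, hφ⟩ := main2 lam h1 hL I hI f (isJ_defect_of_lift I φ₀ f hfx)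
  refine ⟨φ, fun c => ?_⟩
  rw [← hfx c]
  have := iq_eq_zero_of_mem I (hφ c)
  rw [map_sub, sub_eq_zero] at this
  exact this.symm

/-- **Relative lifting**, affine form. -/
theorem exists_relative_lift [Algebra.FormallySmooth R C]
    {A₁ : Type u} [CommRing A₁] [HopfAlgebra R A₁] (h₁ : IsMultType R A₁)
    {A₂ : Type u} [CommRing A₂] [HopfAlgebra R A₂] (h₂ : IsMultType R A₂)
    (hI : IsNilpotent I) (α : A₂ →ₐc[R] A₁) (β : C →ₐc[R] A₁)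
    (γ₀ : (R ⧸ I) ⊗[R] C →ₐc[R ⧸ I] (R ⧸ I) ⊗[R] A₂)
    (h0 : ∀ c : C, Algebra.TensorProduct.map (AlgHom.id (R ⧸ I) (R ⧸ I)) (α : A₂ →ₐ[R] A₁)
      (γ₀ ((1 : R ⧸ I) ⊗ₜ[R] c)) = (1 : R ⧸ I) ⊗ₜ[R] (β c)) :
    ∃ γ : C →ₐc[R] A₂, (∀ c : C, γ₀ ((1 : R ⧸ I) ⊗ₜ[R] c) = (1 : R ⧸ I) ⊗ₜ[R] (γ c)) ∧
      ∀ c : C, α (γ c) = β c := by
  obtain ⟨γ', hγ'⟩ := exists_lift_bialgHom I h₂ hI γ₀
  obtain ⟨lam, h1, hL⟩ := exists_integral h₁
  have hαγ : IsJ I (cvOf (β : C →ₐ[R] A₁) -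
      cvOf ((α : A₂ →ₐ[R] A₁).comp (γ' : C →ₐ[R] A₂))) := by
    apply isJ_of_pushR_iq_eq_zero I
    apply WithConv.ext
    ext x
    show iq I A₁ (β x - α (γ' x)) = 0
    rw [map_sub, sub_eq_zero, iq_apply, iq_apply, ← h0 x, hγ' x]
    rfl
  obtain ⟨γ, hγ1, hγ2⟩ := main1 lam h1 hL I hI α β γ' hαγ
  refine ⟨γ, fun c => ?_, hγ2⟩
  rw [hγ' c]
  have := iq_eq_zero_of_mem I (hγ1 c)
  rw [map_sub, sub_eq_zero] at this
  exact this.symm

end Final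

end Groth.Agent.Lib.Helper6.HInt
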